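import Mathlib

/-!
# Actions on abelian groups: equal stabilisers, counting fixed points, an averaging argument

* `stabilizer_eq_of_antichain` : if a group acts through commuting operators and no orbit length of a
  non-trivial element properly divides another one, all non-trivial elements have the same stabiliser.
* `card_sub_one_eq` : a group `L` acts, an automorphism `σ` of prime order `r` maps every orbit to
  itself and stabilisers consist of `σ`-fixed elements: then `|X| - 1 = |[L,σ]| (|C_X(σ)| - 1)`.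
* `eq_of_pow_sub_one` : `q^u - 1 = M (q^s - 1)` determines `u` from `M`.
* `eq_one_of_fpf` : an operator of prime order without fixed points cannot normalise a coprime
  group without fixed points on which it acts without fixed points.
-/

set_option autoImplicit false
set_option linter.unusedSectionVars false
set_option linter.style.haveILetI false

namespace Cfsg.Agent.NonDivDeg

section Antichain

variable {H X : Type*} [Group H] [Finite H] [CommGroup X] [MulDistribMulAction H X]

/-- The subgroup of elements fixed by every element fixing `v`. -/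
def fixedHull (v : X) : Subgroup X where
  carrier := {w | ∀ u : H, u • v = v → u • w = w}
  one_mem' := fun u _ => smul_one u
  mul_mem' {a b} ha hb := fun u hu => by rw [smul_mul', ha u hu, hb u hu]
  inv_mem' {a} ha := fun u hu => by rw [smul_inv', ha u hu]

theorem stabilizer_eq_of_antichain (hcomm : ∀ (a b : H) (v : X), a • b • v = b • a • v)
    (hanti : ∀ v w : X, v ≠ 1 → w ≠ 1 → (MulAction.stabilizer H v).index ∣
      (MulAction.stabilizer H w).index →
      (MulAction.stabilizer H v).index = (MulAction.stabilizer H w).index)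
    {v₁ v₂ : X} (h₁ : v₁ ≠ 1) (h₂ : v₂ ≠ 1) :
    MulAction.stabilizer H v₁ = MulAction.stabilizer H v₂ := by
  -- inclusion forces equality
  have hle : ∀ {v w : X}, v ≠ 1 → w ≠ 1 → MulAction.stabilizer H v ≤ MulAction.stabilizer H w →
      MulAction.stabilizer H v = MulAction.stabilizer H w := by
    intro v w hv hw h
    have h1 : (MulAction.stabilizer H w).index = (MulAction.stabilizer H v).index :=
      hanti w v hw hv (Subgroup.index_dvd_of_le h)
    have h2 := Subgroup.relIndex_mul_index h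
    rw [h1] at h2
    exact le_antisymm h (Subgroup.relIndex_eq_one.1
      ((Nat.mul_eq_right Subgroup.index_ne_zero_of_finite).1 h2))
  set S : X → Subgroup X := fun v => Subgroup.closure (MulAction.orbit H v) with hSdef
  have hspan : ∀ v : X, S v ≤ fixedHull (H := H) v := by
    intro v
    rw [hSdef, Subgroup.closure_le]
    rintro _ ⟨a, rfl⟩ u hu
    show u • a • v = a • v
    rw [hcomm, hu]
  have hinv : ∀ (v : X) (u : H), ∀ w ∈ S v, u • w ∈ S v := by
    intro v u w hw
    refine Subgroup.closure_induction (fun x hx => ?_) ?_ (fun a b _ _ ha hb => ?_)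
      (fun a _ ha => ?_) hw
    · obtain ⟨a, rfl⟩ := hx
      exact Subgroup.subset_closure ⟨u * a, mul_smul u a v⟩
    · rw [smul_one]; exact one_mem _
    · rw [smul_mul']; exact mul_mem ha hb
    · rw [smul_inv']; exact inv_mem ha
  by_cases hw : ∃ w, w ∈ S v₁ ∧ w ∈ S v₂ ∧ w ≠ 1
  · obtain ⟨w, hw1, hw2, hne⟩ := hw
    rw [hle h₁ hne fun u hu => hspan v₁ hw1 u hu, hle h₂ hne fun u hu => hspan v₂ hw2 u hu]
  push Not at hw
  have hm : ∀ v : X, v ∈ S v := fun v => Subgroup.subset_closure ⟨1, one_smul H v⟩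
  have h12 : v₁ * v₂ ≠ 1 := fun h => h₁ (hw v₁ (hm v₁) (by
    rw [eq_inv_of_mul_eq_one_left h]; exact inv_mem (hm v₂)))
  have hboth : ∀ u : H, u • (v₁ * v₂) = v₁ * v₂ → u • v₁ = v₁ ∧ u • v₂ = v₂ := by
    intro u hu
    rw [smul_mul'] at hu
    have h3 : v₁⁻¹ * (u • v₁) = v₂ * (u • v₂)⁻¹ := by
      rw [eq_mul_inv_iff_mul_eq, mul_assoc, hu, inv_mul_cancel_left]
    have h4 := hw _ (mul_mem (inv_mem (hm v₁)) (hinv v₁ u v₁ (hm v₁)))
      (by rw [h3]; exact mul_mem (hm v₂) (inv_mem (hinv v₂ u v₂ (hm v₂))))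
    refine ⟨(inv_mul_eq_one.1 h4).symm, ?_⟩
    rw [h4] at h3
    exact (mul_inv_eq_one.1 h3.symm).symm
  rw [← hle h12 h₁ fun u hu => (hboth u hu).1, hle h12 h₂ fun u hu => (hboth u hu).2]

end Antichain

section Count

variable {L X : Type*} [CommGroup L] [Finite L] [CommGroup X] [Finite X]

/-- `l ↦ τ l / l`. -/
def commHom (τ : MulAut L) : L →* L where
  toFun l := τ l * l⁻¹
  map_one' := by simp
  map_mul' a b := by rw [map_mul, mul_inv, mul_mul_mul_comm]

theorem commHom_apply (τ : MulAut L) (l : L) : commHom τ l = τ l * l⁻¹ := rfl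

/-- The subgroup of fixed points. -/
def fixSub (σ : MulAut X) : Subgroup X where
  carrier := {v | σ v = v}
  one_mem' := map_one σ
  mul_mem' {a b} ha hb := by
    show σ (a * b) = a * b
    rw [map_mul, ha, hb]
  inv_mem' {a} ha := by
    show σ a⁻¹ = a⁻¹
    rw [map_inv, ha]

theorem mem_fixSub {σ : MulAut X} {v : X} : v ∈ fixSub σ ↔ σ v = v := Iff.rfl

theorem pow_apply_eq {G : Type*} [Group G] (σ : MulAut G) (c : G) (x : G) (hx : σ x = c * x)
    (hc : σ c = c) (n : ℕ) : (σ ^ n) x = c ^ n * x := by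
  induction n with
  | zero => simp
  | succ n ih => rw [pow_succ', MulAut.mul_apply, ih, map_mul, map_pow, hx, hc, pow_succ, mul_assoc]

theorem card_sub_one_eq (ρ : L →* MulAut X) (τ : MulAut L) (σ : MulAut X)
    (hequiv : ∀ l v, σ (ρ l v) = ρ (τ l) (σ v)) {r : ℕ} (hr : r.Prime)
    (hco : ¬ r ∣ Nat.card L) (hτ : ∀ l, (τ ^ r) l = l) (hσ : ∀ v, (σ ^ r) v = v)
    (hstab : ∀ v, v ≠ 1 → ∀ l, ρ l v = v → τ l = l) (horb : ∀ v, ∃ l, σ v = ρ l v) :
    Nat.card X - 1 = Nat.card (commHom τ).range * (Nat.card (fixSub σ) - 1) := by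
  classical
  have hcop : ∀ l : L, l ^ r = 1 → l = 1 := fun l h => by
    have h1 : orderOf l ∣ r := orderOf_dvd_of_pow_eq_one h
    rcases (Nat.dvd_prime hr).1 h1 with h2 | h2
    · exact orderOf_eq_one_iff.1 h2
    · exact absurd (h2 ▸ orderOf_dvd_natCard l) hco
  set I := (commHom τ).range with hI
  set C := (commHom τ).ker with hC
  have hmemC : ∀ l, l ∈ C ↔ τ l = l := fun l => by
    rw [hC, MonoidHom.mem_ker, commHom_apply, mul_inv_eq_one]
  have hIC : ∀ l ∈ I, τ l = l → l = 1 := by
    rintro _ ⟨j, rfl⟩ hj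
    refine hcop _ ?_
    have h := pow_apply_eq τ (commHom τ j) j (by rw [commHom_apply, inv_mul_cancel_right]) hj r
    rw [hτ] at h
    exact right_eq_mul.1 h
  have hdec : ∀ l : L, ∃ i ∈ I, ∃ c ∈ C, i * c = l := by
    let f : I × C → L := fun x => (x.1 : L) * x.2
    have hinj : Function.Injective f := by
      rintro ⟨i, c⟩ ⟨i', c'⟩ h
      have h' : (i : L) * c = i' * c' := h
      have h1 : (i' : L)⁻¹ * i = c' * (c : L)⁻¹ := by
        rw [eq_mul_inv_iff_mul_eq, mul_assoc, h', inv_mul_cancel_left]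
      have h2 : (i' : L)⁻¹ * i = 1 := hIC _ (mul_mem (inv_mem i'.2) i.2)
        (by rw [h1]; exact (hmemC _).1 (mul_mem c'.2 (inv_mem c.2)))
      have h3 : i = i' := Subtype.ext (inv_mul_eq_one.1 h2).symm
      subst h3
      exact Prod.ext rfl (Subtype.ext (mul_left_cancel h'))
    have hcard : Nat.card (I × C) = Nat.card L := by
      rw [Nat.card_prod, ← Subgroup.card_mul_index C, mul_comm]
      congr 1
      rw [hI, hC, Subgroup.index_ker]
    intro l
    obtain ⟨⟨i, c⟩, h⟩ := (Nat.bijective_iff_injective_and_card f).2 ⟨hinj, hcard⟩ |>.2 l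
    exact ⟨i, i.2, c, c.2, h⟩
  let F : I × {v : X // σ v = v ∧ v ≠ 1} → {v : X // v ≠ 1} := fun x =>
    ⟨ρ (x.1 : L) x.2.1, fun h => x.2.2.2 ((ρ (x.1 : L)).injective (h.trans (map_one _).symm))⟩
  have hbij : Function.Bijective F := by
    refine ⟨?_, ?_⟩
    · rintro ⟨i, v, hv, hv1⟩ ⟨i', v', hv', hv'1⟩ h
      have h1 : ρ (i : L) v = ρ (i' : L) v' := congrArg Subtype.val h
      have h2 : v' = ρ ((i' : L)⁻¹ * i) v := by
        rw [map_mul, MulAut.mul_apply, h1, map_inv, MulAut.inv_def, MulEquiv.symm_apply_apply]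
      have h3 : ρ (τ ((i' : L)⁻¹ * i)) v = ρ ((i' : L)⁻¹ * i) v := by
        have h5 := hequiv ((i' : L)⁻¹ * i) v
        rw [← h2, hv', hv] at h5
        rw [← h5]; exact h2
      have h4 : ρ (commHom τ ((i' : L)⁻¹ * i)) v = v := by
        rw [commHom_apply, mul_comm, map_mul, MulAut.mul_apply, h3, map_inv, MulAut.inv_def,
          MulEquiv.symm_apply_apply]
      have h6 := hIC _ ⟨_, rfl⟩ (hstab v hv1 _ h4)
      rw [commHom_apply, mul_inv_eq_one] at h6
      have h7 := hIC _ (mul_mem (inv_mem i'.2) i.2) h6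
      have h8 : i = i' := Subtype.ext (inv_mul_eq_one.1 h7).symm
      subst h8
      exact Prod.ext rfl (Subtype.ext ((ρ (i : L)).injective h1))
    · rintro ⟨v, hv⟩
      obtain ⟨l, hl⟩ := horb v
      obtain ⟨i, hi, c, hc, rfl⟩ := hdec l
      obtain ⟨j, rfl⟩ := hi
      set v₁ := ρ j⁻¹ v with hv₁def
      have hv₁ : v₁ ≠ 1 := fun h => hv ((ρ j⁻¹).injective (h.trans (map_one _).symm))
      have hσv₁ : σ v₁ = ρ c v₁ := by
        rw [hv₁def, hequiv, hl, ← MulAut.mul_apply, ← map_mul, ← MulAut.mul_apply, ← map_mul]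
        congr 2
        rw [commHom_apply, map_inv, mul_assoc (τ j), inv_mul_cancel_left, mul_comm]
      have hpow : ∀ n : ℕ, (σ ^ n) v₁ = ρ (c ^ n) v₁ := by
        intro n
        induction n with
        | zero => simp
        | succ n ih =>
          rw [pow_succ', MulAut.mul_apply, ih, hequiv, map_pow, (hmemC c).1 hc, hσv₁,
            ← MulAut.mul_apply, ← map_mul, ← pow_succ]
      have hcr : ρ (c ^ r) v₁ = v₁ := by rw [← hpow, hσ]
      -- the stabiliser is a subgroup of an `r'`-group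
      let T : Subgroup L := (MulAction.stabilizer (MulAut X) v₁).comap ρ
      have hcv : ρ c v₁ = v₁ := by
        have hmem : c ∈ T := by
          obtain ⟨m, hm⟩ := exists_pow_eq_self_of_coprime (x := c) (n := r)
            ((hr.coprime_iff_not_dvd.2 fun h => hco (h.trans (orderOf_dvd_natCard c))))
          rw [← hm]
          exact pow_mem (show c ^ r ∈ T from hcr) m
        exact hmem
      obtain ⟨i', hi', c', hc', hj⟩ := hdec j
      refine ⟨(⟨i', hi'⟩, ⟨ρ c' v₁, ?_, ?_⟩), ?_⟩
      · rw [hequiv, (hmemC c').1 hc', hσv₁, hcv]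
      · exact fun h => hv₁ ((ρ c').injective (h.trans (map_one _).symm))
      · refine Subtype.ext ?_
        show ρ i' (ρ c' v₁) = v
        rw [← MulAut.mul_apply, ← map_mul, hj, hv₁def, ← MulAut.mul_apply, ← map_mul,
          mul_inv_cancel, map_one, MulAut.one_apply]
  have hcardF := Nat.card_congr (Equiv.ofBijective F hbij)
  rw [Nat.card_prod] at hcardF
  have hne : ∀ (Y : Type _) [Finite Y] (y : Y), Nat.card {v : Y // v ≠ y} = Nat.card Y - 1 := by
    intro Y _ y
    letI := Fintype.ofFinite Y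
    rw [Nat.card_eq_fintype_card, Nat.card_eq_fintype_card, Fintype.card_subtype_compl,
      Fintype.card_subtype_eq]
  rw [← hne X 1, ← hcardF]
  congr 1
  rw [← hne (fixSub σ) 1]
  exact Nat.card_congr
    { toFun := fun x => ⟨⟨x.1, x.2.1⟩, fun h => x.2.2 (congrArg Subtype.val h)⟩
      invFun := fun x => ⟨x.1.1, x.1.2, fun h => x.2 (Subtype.ext h)⟩
      left_inv := fun _ => rfl
      right_inv := fun _ => rfl }

end Count

theorem eq_of_pow_sub_one {q M u v s t : ℕ} (hq : q.Prime) (hM : 2 ≤ M) (hu : 0 < u) (hv : 0 < v)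
    (h1 : q ^ u - 1 = M * (q ^ s - 1)) (h2 : q ^ v - 1 = M * (q ^ t - 1)) : u = v := by
  have key : ∀ {u s : ℕ}, 0 < u → q ^ u - 1 = M * (q ^ s - 1) →
      ∃ z, M - 1 = q ^ s * z ∧ ¬ q ∣ z := by
    intro u s hu h
    have hqu : 1 < q ^ u := Nat.one_lt_pow hu.ne' hq.one_lt
    have hs : 0 < s := Nat.pos_of_ne_zero fun h0 => by
      rw [h0, pow_zero, Nat.sub_self, mul_zero] at h; omega
    have hqs : 1 < q ^ s := Nat.one_lt_pow hs.ne' hq.one_lt
    have hsu : s < u := by
      refine (Nat.pow_lt_pow_iff_right hq.one_lt).1 ?_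
      have : 2 * (q ^ s - 1) ≤ M * (q ^ s - 1) := Nat.mul_le_mul_right _ hM
      omega
    have hqM : ¬ q ∣ M := fun hd => by
      have h4 : q ∣ q ^ u - 1 := h ▸ hd.mul_right _
      have h5 : q ∣ q ^ u := dvd_pow_self q hu.ne'
      exact hq.one_lt.ne' (Nat.dvd_one.1 ((Nat.dvd_add_right h4).1
        (by rwa [Nat.sub_add_cancel hqu.le])))
    refine ⟨M - q ^ (u - s), ?_, ?_⟩
    · rw [Nat.mul_sub_left_distrib, ← pow_add, Nat.add_sub_cancel' hsu.le, mul_comm]
      rw [Nat.mul_sub_left_distrib, mul_one] at h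
      have : M ≤ M * q ^ s := Nat.le_mul_of_pos_right _ (by omega)
      omega
    · intro hd
      have h3 : q ∣ q ^ (u - s) := dvd_pow_self q (by omega)
      have hle : q ^ (u - s) ≤ M := by
        by_contra hlt
        have h6 : M * q ^ s < q ^ (u - s) * q ^ s :=
          Nat.mul_lt_mul_of_pos_right (not_le.1 hlt) (by omega)
        rw [← pow_add, Nat.sub_add_cancel hsu.le] at h6
        rw [Nat.mul_sub_left_distrib, mul_one] at h
        have : M ≤ M * q ^ s := Nat.le_mul_of_pos_right _ (by omega)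
        omega
      have h7 := dvd_add hd h3
      rw [Nat.sub_add_cancel hle] at h7
      exact hqM h7
  obtain ⟨z, hz, hqz⟩ := key hu h1
  obtain ⟨w, hw, hqw⟩ := key hv h2
  have hst : s = t := by
    rcases Nat.lt_trichotomy s t with h | h | h
    · exfalso
      refine hqz ?_
      rw [hw, show t = s + (t - s) by omega, pow_add, mul_assoc] at hz
      rw [← Nat.eq_of_mul_eq_mul_left (pow_pos hq.pos s) hz]
      exact (dvd_pow_self q (by omega)).mul_right w
    · exact h
    · exfalso
      refine hqw ?_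
      rw [hz, show s = t + (s - t) by omega, pow_add, mul_assoc] at hw
      rw [← Nat.eq_of_mul_eq_mul_left (pow_pos hq.pos t) hw]
      exact (dvd_pow_self q (by omega)).mul_right z
  subst hst
  refine Nat.pow_right_injective hq.two_le ?_
  have : 1 ≤ q ^ u := Nat.one_le_pow _ _ hq.pos
  have : 1 ≤ q ^ v := Nat.one_le_pow _ _ hq.pos
  show q ^ u = q ^ v
  omega

section Averaging

variable {E Y : Type*} [CommGroup E] [Group Y] [Fintype Y]

theorem eq_one_of_fpf (ρ : Y →* MulAut E) (a : MulAut E) (b : MulAut Y) {p : ℕ} (hp : p.Prime)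
    (ha : ∀ e, (a ^ p) e = e) (hcov : ∀ y e, a (ρ y e) = ρ (b y) (a e))
    (hb : ∀ i, 0 < i → i < p → ∀ y, (b ^ i) y = y → y = 1)
    (hE : ∀ e, (∀ y, ρ y e = e) → e = 1) (hfix : ∀ e, a e = e → e = 1) (e : E) :
    e ^ Fintype.card Y = 1 := by
  classical
  have hcov' : ∀ (i : ℕ) y e, (a ^ i) (ρ y e) = ρ ((b ^ i) y) ((a ^ i) e) := by
    intro i
    induction i with
    | zero => simp
    | succ i ih => intro y e; rw [pow_succ', pow_succ', MulAut.mul_apply, MulAut.mul_apply,
        MulAut.mul_apply, ih, hcov]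
  have hT : ∀ e, ∏ i ∈ Finset.range p, (a ^ i) e = 1 := by
    intro e
    refine hfix _ ?_
    have h1 := Finset.prod_range_succ' (fun i => (a ^ i) e) p
    rw [Finset.prod_range_succ, ha, pow_zero, MulAut.one_apply] at h1
    rw [map_prod]
    calc ∏ i ∈ Finset.range p, a ((a ^ i) e) = ∏ i ∈ Finset.range p, (a ^ (i + 1)) e :=
          Finset.prod_congr rfl fun i _ => by rw [pow_succ', MulAut.mul_apply]
      _ = _ := (mul_right_cancel h1).symm
  have hsum : ∏ y : Y, ∏ i ∈ Finset.range p, ρ y ((a ^ i) (ρ y⁻¹ e)) = 1 :=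
    Finset.prod_eq_one fun y _ => by rw [← map_prod, hT, map_one]
  rw [Finset.prod_comm] at hsum
  rw [Finset.prod_eq_single_of_mem 0 (Finset.mem_range.2 hp.pos)] at hsum
  · rw [← hsum, ← Finset.card_univ, ← Finset.prod_const]
    exact Finset.prod_congr rfl fun y _ => by
      rw [pow_zero, MulAut.one_apply, ← MulAut.mul_apply, ← map_mul, mul_inv_cancel, map_one,
        MulAut.one_apply]
  · intro i hi hi0
    have hinj : Function.Injective fun y : Y => y * ((b ^ i) y)⁻¹ := by
      intro y z h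
      have h1 : z⁻¹ * y = ((b ^ i) z)⁻¹ * (b ^ i) y := by
        have h' : y * ((b ^ i) y)⁻¹ = z * ((b ^ i) z)⁻¹ := h
        rw [inv_mul_eq_iff_eq_mul, ← mul_assoc, ← h', inv_mul_cancel_right]
      have := hb i (Nat.pos_of_ne_zero hi0) (Finset.mem_range.1 hi) (z⁻¹ * y)
        (by rw [map_mul, map_inv, ← h1])
      exact (inv_mul_eq_one.1 this).symm
    calc ∏ y : Y, ρ y ((a ^ i) (ρ y⁻¹ e)) = ∏ y : Y, ρ (y * ((b ^ i) y)⁻¹) ((a ^ i) e) :=
          Finset.prod_congr rfl fun y _ => by
            rw [hcov', map_inv, ← MulAut.mul_apply, ← map_mul]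
      _ = ∏ z : Y, ρ z ((a ^ i) e) :=
          Fintype.prod_bijective _ (Finite.injective_iff_bijective.1 hinj) _ _ fun _ => rfl
      _ = 1 := hE _ fun y => by
        rw [map_prod]
        exact Fintype.prod_bijective _ (Group.mulLeft_bijective y) _ _ fun z => by
          rw [← MulAut.mul_apply, ← map_mul]

end Averaging

end Cfsg.Agent.NonDivDeg
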