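import Cfsg.Agent.Lib.NonDivDeg.Critical
import Cfsg.Agent.Lib.Coprime.Stabilize

/-!
# The critical case `E ≤ Z(R)`

Then `R` is a `q`-group, counting the linear characters of `R` and of `E` gives `|E| = |R : E|`, so some
character of `E` is degenerate on `R`, and one of its extensions to the radical gives a degree which is a
proper multiple of `[H : S₀]`.
-/

set_option autoImplicit false
set_option linter.style.haveILetI false
set_option linter.unusedSectionVars false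

namespace Cfsg.Agent.NonDivDeg

open Cfsg.Agent Cfsg.Agent.Char Cfsg.Agent.RelDeg
open scoped commutatorElement ComplexConjugate

universe u

variable {K : Type u} [Group K] [Fintype K] {r p q : ℕ} [Fact p.Prime] {σ : MulAut K}
  {P : Sylow p K} {E : Subgroup K}

/-- The restriction of `σ` to an invariant subgroup. -/
noncomputable def resAut (σ : MulAut K) (F : Subgroup K) (hF : ∀ x ∈ F, σ x ∈ F) : MulAut F :=
  MulEquiv.ofBijective
    (MonoidHom.mk' (fun x : F => (⟨σ x, hF x x.2⟩ : F)) fun _ _ => Subtype.ext (map_mul σ _ _))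
    (Finite.injective_iff_bijective.1 fun _ _ h =>
      Subtype.ext (σ.injective (congrArg Subtype.val h)))

theorem coe_resAut (σ : MulAut K) (F : Subgroup K) (hF : ∀ x ∈ F, σ x ∈ F) (x : F) :
    ((resAut σ F hF x : F) : K) = σ x := rfl

theorem coe_resAut_pow (σ : MulAut K) (F : Subgroup K) (hF : ∀ x ∈ F, σ x ∈ F) (n : ℕ) (x : F) :
    (((resAut σ F hF ^ n) x : F) : K) = (σ ^ n) x := by
  induction n with
  | zero => rfl
  | succ n ih => rw [pow_succ', pow_succ', MulAut.mul_apply, MulAut.mul_apply, coe_resAut, ih]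

/-- The action of `σ` on the linear characters of an invariant normal subgroup. -/
noncomputable def linAut (σ : MulAut K) (F : Subgroup K) [F.Normal] (hF : ∀ x ∈ F, σ x ∈ F) :
    MulAut (Lin F) where
  toFun v := MonoidHom.comp v (resAut σ F hF).symm.toMonoidHom
  invFun v := MonoidHom.comp v (resAut σ F hF).toMonoidHom
  left_inv v := Lin.ext fun n => by
    show v ((resAut σ F hF).symm (resAut σ F hF n)) = v n
    rw [MulEquiv.symm_apply_apply]
  right_inv v := Lin.ext fun n => by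
    show v (resAut σ F hF ((resAut σ F hF).symm n)) = v n
    rw [MulEquiv.apply_symm_apply]
  map_mul' v w := rfl

theorem linAut_apply (σ : MulAut K) (F : Subgroup K) [F.Normal] (hF : ∀ x ∈ F, σ x ∈ F)
    (v : Lin F) (n : F) : linAut σ F hF v (resAut σ F hF n) = v n :=
  congrArg v ((resAut σ F hF).symm_apply_apply n)

theorem linAut_smul (σ : MulAut K) (F : Subgroup K) [F.Normal] (hF : ∀ x ∈ F, σ x ∈ F)
    (g : K) (v : Lin F) : linAut σ F hF (g • v) = σ g • linAut σ F hF v := by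
  refine Lin.ext fun m => ?_
  obtain ⟨n, rfl⟩ := (resAut σ F hF).surjective m
  rw [linAut_apply, lin_smul_apply, lin_smul_apply,
    show MulAut.conjNormal (σ g)⁻¹ (resAut σ F hF n) =
      resAut σ F hF (MulAut.conjNormal g⁻¹ n) from Subtype.ext (by
        rw [MulAut.conjNormal_apply, coe_resAut, coe_resAut, MulAut.conjNormal_apply]
        simp), linAut_apply]

theorem linAut_pow_eq (σ : MulAut K) (F : Subgroup K) [F.Normal] (hF : ∀ x ∈ F, σ x ∈ F) {k : ℕ}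
    (hk : ∀ x ∈ F, (σ ^ k) x = x) (v : Lin F) : (linAut σ F hF ^ k) v = v := by
  have h1 : ∀ (j : ℕ) (w : Lin F) (n : F),
      (linAut σ F hF ^ j) w ((resAut σ F hF ^ j) n) = w n := by
    intro j
    induction j with
    | zero => intro w n; rfl
    | succ j ih =>
      intro w n
      rw [pow_succ', pow_succ', MulAut.mul_apply, MulAut.mul_apply, linAut_apply, ih]
  refine Lin.ext fun n => ?_
  conv_lhs => rw [← show (resAut σ F hF ^ k) n = n from Subtype.ext (by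
    rw [coe_resAut_pow]; exact hk n n.2)]
  exact h1 k v n

theorem smul_eq_self_of_commute {F : Subgroup K} [F.Normal] {g : K}
    (h : ∀ e ∈ F, g * e = e * g) (v : Lin F) : g • v = v :=
  (lin_smul_eq_iff g v).2 fun n => congrArg v (Subtype.ext (by
    rw [MulAut.conjNormal_apply, h n n.2, mul_inv_cancel_right]))

theorem smul_eq_self_of_mem {F : Subgroup K} [F.Normal] {g : K} (hg : g ∈ F) (v : Lin F) :
    g • v = v :=
  (lin_smul_eq_iff g v).2 fun n => by
    rw [show MulAut.conjNormal g n = (⟨g, hg⟩ : F) * n * (⟨g, hg⟩ : F)⁻¹ from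
      Subtype.ext (by simp), map_mul, map_mul, map_inv, mul_comm, inv_mul_cancel_left]

theorem exists_nonlinear_over (F : Subgroup K) [F.Normal] [Fintype F] (hF : F ≤ commutator K)
    {v : Lin F} (hv : v ≠ 1) :
    ∃ χ : IrrCharacter K, degree χ ≠ 1 ∧ classInner (resFun F χ.1) (irrOf F v).1 ≠ 0 := by
  obtain ⟨χ, hχ⟩ := exists_above F (irrOf F v)
  refine ⟨χ, fun h1 => hχ ?_, hχ⟩
  obtain ⟨l, hl⟩ := IsCharacter.exists_monoidHom (irr_isCharacter χ)
    (by rw [apply_one_eq_degree, h1, Nat.cast_one])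
  have hres : resFun F χ.1 = (trivialChar F).1 := funext fun n => by
    rw [resFun_apply, ← hl]
    exact congrArg Units.val
      (MonoidHom.mem_ker.1 (Abelianization.commutator_subset_ker l.toHomUnits (hF n.2)))
  rw [hres]
  refine classInner_eq_zero_of_ne fun e => hv ?_
  rw [← detL_irrOf F v, ← e, show trivialChar F = irrOf F 1 from Subtype.ext (funext fun _ => rfl),
    detL_irrOf]

theorem Setup.exists_smul_linAut (h : Setup r p K σ P) (F : Subgroup K) [F.Normal]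
    (hF : ∀ x ∈ F, σ x ∈ F) (hFc : F ≤ commutator K) {v : Lin F} (hv : v ≠ 1) :
    ∃ g : K, linAut σ F hF v = g • v := by
  haveI := Fintype.ofFinite F
  obtain ⟨χ, hχ1, hχ⟩ := exists_nonlinear_over F hFc hv
  have h1 : classInner (resFun F χ.1) (irrOf F (linAut σ F hF v)).1 =
      classInner (resFun F χ.1) (irrOf F v).1 := by
    rw [classInner, classInner]
    congr 1
    refine (Fintype.sum_equiv (resAut σ F hF).toEquiv _ _ fun m => ?_).symm
    show χ.1 (m : K) * conj ((v m : ℂˣ) : ℂ) =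
      χ.1 ((resAut σ F hF m : F) : K) * conj ((linAut σ F hF v (resAut σ F hF m) : ℂˣ) : ℂ)
    rw [linAut_apply, coe_resAut, h.invariant χ hχ1]
  obtain ⟨g, hg⟩ := exists_conjChar_of_constituents F χ (irrOf F v)
    (irrOf F (linAut σ F hF v)) hχ (by rwa [h1])
  refine ⟨g⁻¹, ?_⟩
  have h2 := congrArg (detL F) hg
  rwa [detL_conjChar, detL_irrOf, detL_irrOf] at h2

namespace Crit

/-- `E ≤ Z(R)` is impossible. -/
theorem false_of_central [Group.IsSolvable K] (c : Crit r p q K σ P E)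
    (hE : E ≤ Subgroup.centralizer (Rs p K : Set K)) : False := by
  classical
  haveI := c.normal
  haveI := Fact.mk c.q_prime
  haveI := Fintype.ofFinite (Rs p K)
  haveI := Fintype.ofFinite E
  have h := c.setup
  have hEc : ∀ e ∈ E, ∀ a ∈ Rs p K, a * e = e * a := fun e he a ha =>
    Subgroup.mem_centralizer_iff.1 (hE he) a ha
  have hcR : ∀ a ∈ Rs p K, ∀ b ∈ Rs p K, ⁅a, b⁆ ∈ E := fun a ha b hb => by
    rw [c.eq]; exact Subgroup.commutator_mem_commutator ha hb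
  -- `R` is a `q`-group
  obtain ⟨i₀, N, hqN, hcardR⟩ := Nat.exists_eq_pow_mul_and_not_dvd
    (Nat.card_pos (α := Rs p K)).ne' q c.q_prime.ne_one
  have hcoN : ∀ i, (q ^ i).Coprime N := fun i =>
    ((c.q_prime.coprime_iff_not_dvd).2 hqN).pow_left i
  let F : Subgroup K :=
    { carrier := {x | x ∈ Rs p K ∧ (∀ y ∈ Rs p K, x * y = y * x) ∧ x ^ N = 1}
      one_mem' := ⟨(Rs p K).one_mem, fun y _ => by rw [one_mul, mul_one], one_pow N⟩
      mul_mem' := fun {a b} ha hb => ⟨(Rs p K).mul_mem ha.1 hb.1,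
        fun y hy => Commute.mul_left (ha.2.1 y hy) (hb.2.1 y hy),
        by rw [Commute.mul_pow (ha.2.1 b hb.1), ha.2.2, hb.2.2, one_mul]⟩
      inv_mem' := fun {a} ha => ⟨(Rs p K).inv_mem ha.1,
        fun y hy => Commute.inv_left (ha.2.1 y hy),
        by rw [inv_pow, ha.2.2, inv_one]⟩ }
  have hFn : F.Normal := ⟨fun x hx g => ⟨Subgroup.Normal.conj_mem inferInstance x hx.1 g,
    fun y hy => by
      have h1 := hx.2.1 (g⁻¹ * y * g) (by
        simpa using Subgroup.Normal.conj_mem inferInstance y hy g⁻¹)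
      calc g * x * g⁻¹ * y = g * (x * (g⁻¹ * y * g)) * g⁻¹ := by group
        _ = y * (g * x * g⁻¹) := by rw [h1]; group,
    by rw [conj_pow, hx.2.2, mul_one, mul_inv_cancel]⟩⟩
  have hFbot : F = ⊥ := by
    by_contra hne
    have h1 := c.uniq F hFn (fun x hx => ⟨h.map_Rs hx.1, fun y hy => by
      rw [← map_eq_of_forall_mem σ (Rs p K) fun y hy => h.map_Rs hy] at hy
      obtain ⟨y, hy, rfl⟩ := hy
      show σ x * σ y = σ y * σ x
      rw [← map_mul, ← map_mul, hx.2.1 y hy],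
      by rw [← map_pow, hx.2.2, map_one]⟩) (fun x hx => hx.1) hne
    refine c.ne_bot ((Subgroup.eq_bot_iff_forall _).2 fun e he => orderOf_eq_one_iff.1 ?_)
    exact Nat.eq_one_of_dvd_coprimes (by simpa using hcoN 1)
      (orderOf_dvd_of_pow_eq_one (c.pow_eq e he)) (orderOf_dvd_of_pow_eq_one (h1 he).2.2)
  have hRq : IsPGroup q (Rs p K) := by
    intro x
    refine ⟨i₀, Subtype.ext ?_⟩
    have hxR : (x : K) ^ q ^ i₀ ∈ Rs p K := (Rs p K).pow_mem x.2 _
    have hN : ((x : K) ^ q ^ i₀) ^ N = 1 := by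
      rw [← pow_mul, ← hcardR]
      exact orderOf_dvd_iff_pow_eq_one.1 (Subgroup.orderOf_dvd_natCard _ x.2)
    have hmem : (x : K) ^ q ^ i₀ ∈ F := by
      refine ⟨hxR, fun y hy => ?_, hN⟩
      refine (Coprime.commute_of_translate (z := ⁅(x : K) ^ q ^ i₀, y⁆)
        (by rw [commutatorElement_def, inv_mul_cancel_right])
        (hEc _ (hcR _ hxR y hy) _ hxR) ?_).eq
      refine Nat.Coprime.coprime_dvd_left (orderOf_dvd_of_pow_eq_one hN) ?_
      refine Nat.Coprime.coprime_dvd_right (orderOf_dvd_of_pow_eq_one (c.pow_eq _ (hcR _ hxR y hy))) ?_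
      simpa using (hcoN 1).symm
    rw [hFbot, Subgroup.mem_bot] at hmem
    exact hmem
  -- `E < R` and linear characters
  have hRne : Rs p K ≠ ⊥ := fun e => c.ne_bot (le_bot_iff.1 (e ▸ c.le_Rs))
  have hRE : ¬ Rs p K ≤ E := fun hle =>
    (Group.IsSolvable.commutator_lt_of_ne_bot hRne).not_ge (c.eq ▸ hle)
  obtain ⟨v₀, hv₀⟩ : ∃ v : Lin (Rs p K), v ≠ 1 := by
    by_contra! hall
    refine hRE fun x hx => c.eq.symm ▸ mem_commutator_of_forall_lin (Rs p K) ⟨x, hx⟩ fun v => ?_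
    rw [hall v]
    rfl
  obtain ⟨θ₀, hθ₀, hθ₀1⟩ := h.exists_degree_Szero hv₀
  set m₀ := (Szero P).relIndex (Hs P) with hm₀
  have hrm : ¬ r ∣ m₀ := hθ₀ ▸ h.r_ndvd θ₀
  -- `q ≠ r`
  have hqr : q ≠ r := by
    intro hqr
    obtain ⟨η, hη⟩ : ∃ η : IrrCharacter (Rs p K), degree η ≠ 1 := by
      by_contra! hall
      refine c.ne_bot (le_bot_iff.1 ?_)
      rw [c.eq, Subgroup.commutator_le]
      intro a ha b hb
      rw [Subgroup.mem_bot, commutatorElement_eq_one_iff_mul_comm]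
      exact forall_comm_of_degrees _ hall a ha b hb
    obtain ⟨n, hn⟩ := hRq.exists_card_eq
    obtain ⟨j, -, hj⟩ := (Nat.dvd_prime_pow c.q_prime).1 (hn ▸ (by
      rw [← charDegree_eq_degree]; exact charDegree_dvd_card η) : degree η ∣ q ^ n)
    obtain ⟨χ, hχ⟩ := exists_above (Rs p K) η
    refine h.r_ndvd χ ((hqr ▸ ?_ : r ∣ degree η).trans (degree_dvd _ χ η hχ))
    rw [hj]
    exact dvd_pow_self q fun h0 => hη (by rw [hj, h0, pow_zero])
  -- `S₀`
  haveI hS0n : ((Szero P).subgroupOf (Hs P)).Normal := ⟨fun a ha g => by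
    rw [Subgroup.mem_subgroupOf] at ha ⊢
    simpa using Szero_conj_mem ha g.2⟩
  have hS0pow : ∀ {a : K}, a ∈ Hs P → ∀ {i : ℕ}, a ^ i ∈ Szero P → (i.Coprime m₀) →
      a ∈ Szero P := by
    intro a ha i hai hco
    have h1 : (QuotientGroup.mk ⟨a, ha⟩ : Hs P ⧸ (Szero P).subgroupOf (Hs P)) ^ i = 1 := by
      rw [← QuotientGroup.mk_pow, QuotientGroup.eq_one_iff, Subgroup.mem_subgroupOf]
      exact hai
    have h2 : orderOf (QuotientGroup.mk ⟨a, ha⟩ : Hs P ⧸ (Szero P).subgroupOf (Hs P)) ∣ m₀ := by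
      have := orderOf_dvd_natCard (QuotientGroup.mk ⟨a, ha⟩ : Hs P ⧸ (Szero P).subgroupOf (Hs P))
      rwa [← Subgroup.index_eq_card] at this
    have h3 := orderOf_eq_one_iff.1
      (Nat.eq_one_of_dvd_coprimes hco (orderOf_dvd_of_pow_eq_one h1) h2)
    exact Subgroup.mem_subgroupOf.1 ((QuotientGroup.eq_one_iff _).1 h3)
  have hLinq : ∀ (F : Subgroup K) [F.Normal] [Fintype F], F ≤ Rs p K → IsPGroup q (Lin F) := by
    intro F _ _ hFR v
    obtain ⟨n, hn⟩ := (hRq.to_le hFR).exists_card_eq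
    refine ⟨n, Lin.ext fun e => ?_⟩
    rw [Lin.pow_apply, ← map_pow, ← hn, pow_card_eq_one', map_one, Lin.one_apply]
  have hqm : ¬ q ∣ m₀ := by
    intro hd
    obtain ⟨y, hy⟩ := exists_prime_orderOf_dvd_card' q
      (show q ∣ Nat.card (Hs P ⧸ (Szero P).subgroupOf (Hs P)) by
        rwa [← Subgroup.index_eq_card])
    obtain ⟨a, rfl⟩ := QuotientGroup.mk_surjective y
    obtain ⟨i, o, ho, hoa⟩ := Nat.exists_eq_pow_mul_and_not_dvd
      (orderOf_pos (a : K)).ne' q c.q_prime.ne_one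
    set a' := (a : K) ^ o with ha'
    have hpow : a' ^ q ^ i = 1 := by rw [ha', ← pow_mul, mul_comm, ← hoa, pow_orderOf_eq_one]
    have hpz : IsPGroup q (Subgroup.zpowers a') := by
      obtain ⟨l, -, hl⟩ := (Nat.dvd_prime_pow c.q_prime).1 (orderOf_dvd_of_pow_eq_one hpow)
      exact IsPGroup.of_card (n := l) (by rw [Nat.card_zpowers, hl])
    have hcardq : q ∣ Nat.card (Lin (Rs p K)) := by
      obtain ⟨n, hn⟩ := (hLinq (Rs p K) le_rfl).exists_card_eq
      rcases n with _ | n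
      · haveI := (Nat.card_eq_one_iff_unique.1 (by simpa using hn : Nat.card (Lin (Rs p K)) = 1)).1
        exact absurd (Subsingleton.elim v₀ 1) hv₀
      · rw [hn]; exact dvd_pow_self q n.succ_ne_zero
    have hmem1 : (1 : Lin (Rs p K)) ∈ MulAction.fixedPoints (Subgroup.zpowers a') (Lin (Rs p K)) :=
      fun z => smul_one (z : K)
    obtain ⟨v, hv, hv1⟩ :=
      hpz.exists_fixed_point_of_prime_dvd_card_of_fixed_point (Lin (Rs p K)) hcardq hmem1
    have ha'S : a' ∈ Szero P := h.mem_Szero_of_fixed ((Hs P).pow_mem a.2 o) (Ne.symm hv1)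
      (hv ⟨a', Subgroup.mem_zpowers a'⟩)
    have hco : o.Coprime q := ((c.q_prime.coprime_iff_not_dvd).2 ho).symm
    have h1 : (QuotientGroup.mk a : Hs P ⧸ (Szero P).subgroupOf (Hs P)) ^ o = 1 := by
      rw [← QuotientGroup.mk_pow, QuotientGroup.eq_one_iff, Subgroup.mem_subgroupOf]
      exact ha'S
    exact c.q_prime.one_lt.ne' (Nat.eq_one_of_dvd_coprimes hco
      (hy ▸ orderOf_dvd_of_pow_eq_one h1) dvd_rfl)
  -- `S₀` centralises `E`; its elements of order prime to `q` centralise `R`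
  have hS0R : ∀ a ∈ Szero P, ∀ e ∈ Rs p K, a * e * a⁻¹ * e⁻¹ ∈ E := by
    intro a ha e he
    have hz : a * e * a⁻¹ * e⁻¹ ∈ Rs p K :=
      (Rs p K).mul_mem (Subgroup.Normal.conj_mem inferInstance e he a) ((Rs p K).inv_mem he)
    rw [c.eq]
    refine mem_commutator_of_forall_lin (Rs p K) ⟨_, hz⟩ fun v => ?_
    rw [show (⟨_, hz⟩ : Rs p K) = MulAut.conjNormal a ⟨e, he⟩ * (⟨e, he⟩ : Rs p K)⁻¹ from
      Subtype.ext (by simp), map_mul, map_inv,
      (lin_smul_eq_iff a v).1 ((mem_Szero.1 ha).2 v), mul_inv_cancel]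
  have hS0E : ∀ a ∈ Szero P, ∀ e ∈ E, a * e = e * a := by
    intro a ha e he
    have h1 : E ≤ Subgroup.centralizer ({a} : Set K) := by
      rw [c.eq, Subgroup.commutator_le]
      intro x hx y hy
      refine Subgroup.mem_centralizer_singleton_iff.2 ?_
      have hu := hS0R a ha x hx
      have hw := hS0R a ha y hy
      have hcong : a * ⁅x, y⁆ * a⁻¹ = ⁅x, y⁆ := by
        have h2 : a * ⁅x, y⁆ * a⁻¹ =
            ⁅(a * x * a⁻¹ * x⁻¹) * x, (a * y * a⁻¹ * y⁻¹) * y⁆ := by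
          rw [commutatorElement_def, commutatorElement_def]; group
        generalize a * x * a⁻¹ * x⁻¹ = u at hu h2
        generalize a * y * a⁻¹ * y⁻¹ = w at hw h2
        rw [h2]
        have ku : ∀ {b : K}, b ∈ Rs p K → u * b = b * u := fun hb => (hEc u hu _ hb).symm
        have kw : ∀ {b : K}, b ∈ Rs p K → w * b = b * w := fun hb => (hEc w hw _ hb).symm
        rw [commutatorElement_def, commutatorElement_def]
        calc u * x * (w * y) * (u * x)⁻¹ * (w * y)⁻¹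
            = u * (x * w) * y * x⁻¹ * u⁻¹ * y⁻¹ * w⁻¹ := by group
          _ = u * w * (x * y * x⁻¹) * u⁻¹ * y⁻¹ * w⁻¹ := by
            rw [← kw hx]; group
          _ = w * (u * (x * y * x⁻¹)) * u⁻¹ * y⁻¹ * w⁻¹ := by
            rw [ku (c.le_Rs hw)]; group
          _ = w * (x * y * x⁻¹ * y⁻¹) * w⁻¹ := by
            rw [ku ((Rs p K).mul_mem ((Rs p K).mul_mem hx hy) ((Rs p K).inv_mem hx))]; group
          _ = _ := by
            rw [kw ((Rs p K).mul_mem ((Rs p K).mul_mem ((Rs p K).mul_mem hx hy)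
              ((Rs p K).inv_mem hx)) ((Rs p K).inv_mem hy)), mul_inv_cancel_right]
      exact (mul_inv_eq_iff_eq_mul.1 hcong).symm
    exact (Subgroup.mem_centralizer_singleton_iff.1 (h1 he)).symm
  have hS0cent : ∀ a ∈ Szero P, (orderOf a).Coprime q → ∀ e ∈ Rs p K, a * e = e * a := by
    intro a ha hco e he
    refine (Coprime.commute_of_translate (z := a * e * a⁻¹ * e⁻¹)
      (by rw [inv_mul_cancel_right]) (hS0E a ha _ (hS0R a ha e he)) ?_).eq
    exact hco.coprime_dvd_right (orderOf_dvd_of_pow_eq_one (c.pow_eq _ (hS0R a ha e he)))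
  have hHHcent : ∀ a ∈ ⁅Hs P, Hs P⁆, ∀ e ∈ Rs p K, a * e = e * a := by
    intro a ha
    obtain ⟨n, hn⟩ := P.2 ⟨a, Subgroup.commutator_le_self _ (h.commutator_Hs_le ha)⟩
    refine hS0cent a (h.commutator_le_Szero ha) ?_
    refine Nat.Coprime.coprime_dvd_left
      (orderOf_dvd_of_pow_eq_one (congrArg Subtype.val hn : a ^ p ^ n = 1)) ?_
    exact ((Nat.coprime_primes (Fact.out : p.Prime) c.q_prime).2 (Ne.symm c.q_ne_p)).pow_left n
  obtain ⟨k, hk, ⟨nk, hknk⟩, hσr⟩ := h.inner'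
  have hσrid : ∀ e ∈ Rs p K, (σ ^ r) e = e := by
    have hkS : k ∈ Szero P := hS0pow (Cs_le_Hs hk)
      (show k ^ r ^ nk ∈ Szero P by rw [hknk]; exact one_mem _)
      (((h.r_prime.coprime_iff_not_dvd).2 hrm).pow_left nk)
    intro e he
    rw [hσr, MulAut.conj_apply, hS0cent k hkS ?_ e he, mul_inv_cancel_right]
    exact Nat.Coprime.coprime_dvd_left (orderOf_dvd_of_pow_eq_one hknk)
      (((Nat.coprime_primes h.r_prime c.q_prime).2 (Ne.symm hqr)).pow_left nk)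
  -- `L = H / S₀`
  have hLcomm : ∀ a b : Hs P ⧸ (Szero P).subgroupOf (Hs P), a * b = b * a := by
    intro a b
    obtain ⟨a, rfl⟩ := QuotientGroup.mk_surjective a
    obtain ⟨b, rfl⟩ := QuotientGroup.mk_surjective b
    rw [← commutatorElement_eq_one_iff_mul_comm]
    show ⁅QuotientGroup.mk' _ a, QuotientGroup.mk' _ b⁆ = 1
    rw [← map_commutatorElement, QuotientGroup.mk'_apply, QuotientGroup.eq_one_iff,
      Subgroup.mem_subgroupOf]
    refine h.commutator_le_Szero ?_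
    rw [commutatorElement_def]
    exact Subgroup.commutator_mem_commutator a.2 b.2
  letI : CommGroup (Hs P ⧸ (Szero P).subgroupOf (Hs P)) :=
    { (inferInstance : Group (Hs P ⧸ (Szero P).subgroupOf (Hs P))) with mul_comm := hLcomm }
  have hRσ : ∀ x ∈ Rs p K, σ x ∈ Rs p K := fun x hx => h.map_Rs hx
  have hS0σ : ∀ a ∈ Szero P, σ a ∈ Szero P := by
    intro a ha
    refine mem_Szero.2 ⟨h.map_Hs (Szero_le ha), fun w => ?_⟩
    obtain ⟨v, rfl⟩ := (linAut σ (Rs p K) hRσ).surjective w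
    rw [← linAut_smul, (mem_Szero.1 ha).2 v]
  let σH : MulAut (Hs P) := resAut σ (Hs P) fun x hx => h.map_Hs hx
  have hmap : ((Szero P).subgroupOf (Hs P)).map σH.toMonoidHom = (Szero P).subgroupOf (Hs P) :=
    map_eq_of_forall_mem σH _ fun x hx => Subgroup.mem_subgroupOf.2 (by
      rw [coe_resAut]; exact hS0σ _ (Subgroup.mem_subgroupOf.1 hx))
  let τ : MulAut (Hs P ⧸ (Szero P).subgroupOf (Hs P)) :=
    QuotientGroup.congr _ _ σH hmap
  have hτpow : ∀ (n : ℕ) (a : Hs P), (τ ^ n) (QuotientGroup.mk a) =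
      QuotientGroup.mk ((σH ^ n) a) := by
    intro n a
    induction n with
    | zero => rfl
    | succ n ih => rw [pow_succ', pow_succ', MulAut.mul_apply, MulAut.mul_apply, ih]; rfl
  have hτr : ∀ l, (τ ^ r) l = l := by
    intro l
    obtain ⟨a, rfl⟩ := QuotientGroup.mk_surjective l
    rw [hτpow, show (σH ^ r) a = (⟨k, Cs_le_Hs hk⟩ : Hs P) * a * (⟨k, Cs_le_Hs hk⟩ : Hs P)⁻¹ from
      Subtype.ext (by rw [coe_resAut_pow, hσr]; rfl), QuotientGroup.mk_mul, QuotientGroup.mk_mul,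
      QuotientGroup.mk_inv, mul_comm, inv_mul_cancel_left]
  have hrL : ¬ r ∣ Nat.card (Hs P ⧸ (Szero P).subgroupOf (Hs P)) := by
    rwa [← Subgroup.index_eq_card]
  -- at least two
  have hM2 : 2 ≤ Nat.card (commHom τ).range := by
    obtain ⟨x, hx, hxm⟩ := h.moved'
    obtain ⟨hz, hzm⟩ := h.moved_diff hx hxm
    have hne : commHom τ (QuotientGroup.mk ⟨x, P_le_Hs hx⟩) ≠ 1 := by
      intro he
      rw [commHom_apply, show τ (QuotientGroup.mk ⟨x, P_le_Hs hx⟩) =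
        QuotientGroup.mk (σH ⟨x, P_le_Hs hx⟩) from rfl, ← QuotientGroup.mk_inv,
        ← QuotientGroup.mk_mul, QuotientGroup.eq_one_iff, Subgroup.mem_subgroupOf] at he
      exact h.moved_not_mem_stabilizer (P_le_Hs hz) hzm hv₀
        (MulAction.mem_stabilizer_iff.2 ((mem_Szero.1 he).2 v₀))
    exact (Subgroup.one_lt_card_iff_ne_bot _).2 fun hb => hne (Subgroup.mem_bot.1 (hb ▸ ⟨_, rfl⟩))
  -- counting
  have hcount : ∀ (F : Subgroup K) [F.Normal] [Fintype F], F ≤ Rs p K → (∀ x ∈ F, σ x ∈ F) →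
      (∀ a ∈ Rs p K, ∀ v : Lin F, a • v = v) → (∀ a ∈ Szero P, ∀ v : Lin F, a • v = v) →
      ∃ s, Nat.card (Lin F) - 1 = Nat.card (commHom τ).range * (q ^ s - 1) := by
    intro F _ _ hFR hFσ hRt hS0t
    let ρ : Hs P ⧸ (Szero P).subgroupOf (Hs P) →* MulAut (Lin F) :=
      QuotientGroup.lift _ (MulDistribMulAction.toMulAut (Hs P) (Lin F)) fun a ha =>
        MulEquiv.ext fun v => hS0t a (Subgroup.mem_subgroupOf.1 ha) v
    have hρ : ∀ (a : Hs P) (v : Lin F), ρ (QuotientGroup.mk a) v = (a : K) • v := fun _ _ => rfl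
    have hcard := card_sub_one_eq ρ τ (linAut σ F hFσ) (fun l v => by
      obtain ⟨a, rfl⟩ := QuotientGroup.mk_surjective l
      rw [hρ, linAut_smul, show τ (QuotientGroup.mk a) = QuotientGroup.mk (σH a) from rfl, hρ]
      rfl) h.r_prime hrL hτr (linAut_pow_eq σ F hFσ fun x hx => hσrid x (hFR hx))
      (fun v hv l hl => by
        obtain ⟨a, rfl⟩ := QuotientGroup.mk_surjective l
        rw [hρ] at hl
        show QuotientGroup.mk (σH a) = QuotientGroup.mk a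
        rw [eq_comm, ← mul_inv_eq_one, hLcomm, ← inv_inj, inv_one, mul_inv_rev, inv_inv, hLcomm,
          ← QuotientGroup.mk_inv, ← QuotientGroup.mk_mul, QuotientGroup.eq_one_iff,
          Subgroup.mem_subgroupOf]
        by_contra hnot
        have hcl : ∀ {b : K}, b ∈ ⁅(P : Subgroup K), (P : Subgroup K)⁆ → b ∈ Szero P :=
          fun hb => h.commutator_le_Szero (Subgroup.commutator_mono P_le_Hs P_le_Hs hb)
        have hmoved : Moved σ (a : K) := fun hmem => hnot (by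
          have h1 : σ (a : K) * (a : K)⁻¹ ∈ Hs P :=
            (Hs P).mul_mem (h.map_Hs a.2) ((Hs P).inv_mem a.2)
          exact hcl ((h.mem_commutator_iff h1).1 hmem))
        exact hv (h.lin_eq_one a.2 hmoved F hFR v hl))
      (fun v => by
        by_cases hv : v = 1
        · exact ⟨1, by rw [hv, map_one, map_one]⟩
        obtain ⟨g, hg⟩ := h.exists_smul_linAut F hFσ (hFR.trans Rs_le_commutator) hv
        obtain ⟨e, he, a, ha, rfl⟩ := h.exists_mul g
        refine ⟨QuotientGroup.mk ⟨a, ha⟩, ?_⟩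
        rw [hg, hρ, mul_smul, hRt e he])
    obtain ⟨s, hs⟩ := ((hLinq F hFR).to_subgroup (fixSub (linAut σ F hFσ))).exists_card_eq
    exact ⟨s, by rw [hcard, hs]⟩
  obtain ⟨s, hs⟩ := hcount (Rs p K) le_rfl hRσ (fun a ha v => smul_eq_self_of_mem ha v)
    fun a ha v => (mem_Szero.1 ha).2 v
  obtain ⟨t, ht⟩ := hcount E c.le_Rs (fun x hx => c.map_mem hx)
    (fun a ha v => smul_eq_self_of_commute (fun e he => hEc e he a ha) v)
    fun a ha v => smul_eq_self_of_commute (fun e he => hS0E a ha e he) v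
  have hEcard : Nat.card (Lin E) = Nat.card E := by
    rw [card_lin, show ⁅E, E⁆ = (⊥ : Subgroup K) from le_bot_iff.1 (Subgroup.commutator_le.2
      fun a ha b hb => Subgroup.mem_bot.2
        (commutatorElement_eq_one_iff_mul_comm.2 (c.comm a ha b hb))), Subgroup.relIndex_bot_left]
  have hcardeq : E.relIndex (Rs p K) = Nat.card E := by
    have h0 : Nat.card (Lin (Rs p K)) = E.relIndex (Rs p K) := by rw [card_lin, ← c.eq]
    obtain ⟨u, hu⟩ := (hLinq (Rs p K) le_rfl).exists_card_eq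
    obtain ⟨w, hw⟩ := (hLinq E c.le_Rs).exists_card_eq
    rw [hu] at hs
    rw [hw] at ht
    have hu0 : 0 < u := Nat.pos_of_ne_zero fun e => hRE (Subgroup.relIndex_eq_one.1
      (by rw [← h0, hu, e, pow_zero]))
    have hw0 : 0 < w := Nat.pos_of_ne_zero fun e => c.ne_bot
      (Subgroup.card_eq_one.1 (by rw [← hEcard, hw, e, pow_zero]))
    rw [← h0, hu, eq_of_pow_sub_one c.q_prime hM2 hu0 hw0 hs ht, ← hw, hEcard]
  -- a degenerate character of `E`
  obtain ⟨w, hwR, hwE⟩ := SetLike.not_le_iff_exists.1 hRE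
  let φw : Rs p K →* E := MonoidHom.mk'
    (fun u => (⟨⁅w, (u : K)⁆, hcR w hwR u u.2⟩ : E)) fun a b => Subtype.ext (by
      have hz := hEc _ (hcR w hwR b b.2) a a.2
      show ⁅w, (a : K) * b⁆ = ⁅w, (a : K)⁆ * ⁅w, (b : K)⁆
      calc ⁅w, (a : K) * b⁆ = ⁅w, (a : K)⁆ * ((a : K) * ⁅w, (b : K)⁆) * (a : K)⁻¹ := by
            rw [commutatorElement_def, commutatorElement_def, commutatorElement_def]; group
        _ = _ := by rw [hz]; group)
  letI : CommGroup E :=
    { (inferInstance : Group E) with mul_comm := fun a b => Subtype.ext (c.comm a a.2 b b.2) }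
  obtain ⟨ε, hε, hεw⟩ : ∃ ε : Lin E, ε ≠ 1 ∧ ∀ u : Rs p K, ε (φw u) = 1 := by
    have hrange : φw.range ≠ ⊤ := by
      intro htop
      have h1 : Nat.card φw.range = Nat.card E := by rw [htop, Subgroup.card_top]
      rw [← Subgroup.index_ker] at h1
      have hle : E.subgroupOf (Rs p K) ≤ φw.ker := fun u hu => by
        rw [MonoidHom.mem_ker]
        exact Subtype.ext (commutatorElement_eq_one_iff_mul_comm.2
          (hEc _ (Subgroup.mem_subgroupOf.1 hu) w hwR))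
      have hwk : (⟨w, hwR⟩ : Rs p K) ∈ φw.ker := by
        rw [MonoidHom.mem_ker]
        exact Subtype.ext (commutatorElement_eq_one_iff_mul_comm.2 rfl)
      have h2 := Subgroup.relIndex_mul_index hle
      rw [h1, show (E.subgroupOf (Rs p K)).index = E.relIndex (Rs p K) from rfl, hcardeq] at h2
      exact hwE (Subgroup.mem_subgroupOf.1 (Subgroup.relIndex_eq_one.1
        ((Nat.mul_eq_right Nat.card_pos.ne').1 h2) hwk))
    obtain ⟨e, he⟩ : ∃ e : E, e ∉ φw.range := by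
      by_contra! hall
      exact hrange ((Subgroup.eq_top_iff' _).2 hall)
    obtain ⟨v, hv⟩ : ∃ v : (E ⧸ φw.range) →* ℂˣ, v (QuotientGroup.mk e) ≠ 1 := by
      by_contra! hall
      exact he ((QuotientGroup.eq_one_iff e).1
        (eq_one_of_forall_hom (H := E ⧸ φw.range) (fun a b => mul_comm a b) hall))
    refine ⟨v.comp (QuotientGroup.mk' φw.range), fun h1 => hv ?_, fun u => ?_⟩
    · exact DFunLike.congr_fun h1 e
    · show v (QuotientGroup.mk (φw u)) = 1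
      rw [(QuotientGroup.eq_one_iff _).2 (MonoidHom.mem_range.2 ⟨u, rfl⟩), map_one]
  -- its radical
  let ψ : Rs p K →* (Rs p K → ℂˣ) := MonoidHom.mk'
    (fun a u => ε ⟨⁅(a : K), (u : K)⁆, hcR a a.2 u u.2⟩) fun a b => funext fun u => by
      rw [Pi.mul_apply, ← map_mul]
      refine congrArg ε (Subtype.ext ?_)
      show ⁅(a : K) * b, (u : K)⁆ = ⁅(a : K), (u : K)⁆ * ⁅(b : K), (u : K)⁆
      rw [commutatorElement_mul_left_eq_conj_mul, hEc _ (hcR b b.2 u u.2) a a.2,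
        mul_inv_cancel_right]
      exact hEc _ (hcR a a.2 u u.2) _ (c.le_Rs (hcR b b.2 u u.2))
  set Z : Subgroup K := ψ.ker.map (Rs p K).subtype with hZdef
  have hZR : Z ≤ Rs p K := Subgroup.map_subtype_le _
  have hZiff : ∀ z (hz : z ∈ Rs p K), z ∈ Z ↔
      ∀ u (hu : u ∈ Rs p K), ε ⟨⁅z, u⁆, hcR z hz u hu⟩ = 1 := by
    intro z hz
    constructor
    · rintro ⟨a, ha, rfl⟩ u hu
      exact congrFun (MonoidHom.mem_ker.1 ha) ⟨u, hu⟩
    · exact fun hall => ⟨⟨z, hz⟩, MonoidHom.mem_ker.2 (funext fun u => hall u u.2), rfl⟩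
  have hEZ : E ≤ Z := fun e he => (hZiff e (c.le_Rs he)).2 fun u hu => by
    rw [← map_one ε]
    exact congrArg ε (Subtype.ext
      (commutatorElement_eq_one_iff_mul_comm.2 (hEc e he u hu).symm))
  have hwZ : w ∈ Z := (hZiff w hwR).2 fun u hu => hεw ⟨u, hu⟩
  have hZR' : ∀ z ∈ Z, ∀ u ∈ Rs p K, u * z * u⁻¹ ∈ Z := fun z hz u hu => by
    have h1 := Z.mul_mem (hEZ (hcR u hu z (hZR hz))) hz
    rwa [commutatorElement_def, inv_mul_cancel_right] at h1
  have hZnorm : ∀ a : K, a • ε = ε → ∀ z ∈ Z, a * z * a⁻¹ ∈ Z := by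
    intro a ha z hz
    have hzR := hZR hz
    refine (hZiff _ (Subgroup.Normal.conj_mem inferInstance z hzR a)).2 fun u hu => ?_
    have hu' : a⁻¹ * u * a ∈ Rs p K := by
      simpa using Subgroup.Normal.conj_mem (inferInstance : (Rs p K).Normal) u hu a⁻¹
    rw [show (⟨⁅a * z * a⁻¹, u⁆, hcR _ (Subgroup.Normal.conj_mem inferInstance z hzR a) u hu⟩ : E) =
      MulAut.conjNormal a ⟨⁅z, a⁻¹ * u * a⁆, hcR z hzR _ hu'⟩ from Subtype.ext (by
        rw [MulAut.conjNormal_apply]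
        show ⁅a * z * a⁻¹, u⁆ = a * ⁅z, a⁻¹ * u * a⁆ * a⁻¹
        rw [commutatorElement_def, commutatorElement_def]; group),
      (lin_smul_eq_iff a ε).1 ha]
    exact (hZiff z hzR).1 hz _ hu'
  haveI := Fintype.ofFinite Z
  let Ext : (Z →* ℂˣ) → Prop := fun δ => ∀ e (he : e ∈ E), δ ⟨e, hEZ he⟩ = ε ⟨e, he⟩
  obtain ⟨δ₀, hδ₀⟩ : ∃ δ, Ext δ := by
    obtain ⟨δ, hδ⟩ := exists_linExt (G := Z) (E.subgroupOf Z)
      ((ε : E →* ℂˣ).comp (Subgroup.subgroupOfEquivOfLe hEZ).toMonoidHom) fun n hn => by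
        have h1 : ((n : Z) : K) ∈ ⁅Z, Z⁆ := by
          rw [← Subgroup.map_subtype_commutator]; exact Subgroup.mem_map_of_mem _ hn
        have h2 : ⁅Z, Z⁆ ≤ (MonoidHom.ker (ε : E →* ℂˣ)).map E.subtype := by
          rw [Subgroup.commutator_le]
          intro a ha b hb
          exact ⟨⟨⁅a, b⁆, hcR a (hZR ha) b (hZR hb)⟩, (hZiff a (hZR ha)).1 ha b (hZR hb), rfl⟩
        obtain ⟨e, he, hen⟩ := h2 h1
        show ε _ = 1
        exact (congrArg ε (show e = Subgroup.subgroupOfEquivOfLe hEZ n from Subtype.ext hen)).symm.trans he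
    exact ⟨δ, fun e he => hδ ⟨⟨e, hEZ he⟩, he⟩⟩
  obtain ⟨μ₀, hμ₀E, hμ₀w⟩ : ∃ μ : Z →* ℂˣ, (∀ e (he : e ∈ E), μ ⟨e, hEZ he⟩ = 1) ∧
      μ ⟨w, hwZ⟩ ≠ 1 := by
    haveI : (E.subgroupOf Z).Normal := Subgroup.normal_subgroupOf
    obtain ⟨v, hv⟩ : ∃ v : (Z ⧸ E.subgroupOf Z) →* ℂˣ, v (QuotientGroup.mk ⟨w, hwZ⟩) ≠ 1 := by
      by_contra! hall
      refine hwE (Subgroup.mem_subgroupOf.1 ((QuotientGroup.eq_one_iff (⟨w, hwZ⟩ : Z)).1
        (eq_one_of_forall_hom (H := Z ⧸ E.subgroupOf Z) (fun a b => ?_) hall)))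
      obtain ⟨a, rfl⟩ := QuotientGroup.mk_surjective a
      obtain ⟨b, rfl⟩ := QuotientGroup.mk_surjective b
      rw [← commutatorElement_eq_one_iff_mul_comm]
      show ⁅QuotientGroup.mk' _ a, QuotientGroup.mk' _ b⁆ = 1
      rw [← map_commutatorElement, QuotientGroup.mk'_apply, QuotientGroup.eq_one_iff,
        Subgroup.mem_subgroupOf]
      exact hcR a (hZR a.2) b (hZR b.2)
    refine ⟨v.comp (QuotientGroup.mk' _), fun e he => ?_, hv⟩
    show v (QuotientGroup.mk _) = 1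
    rw [(QuotientGroup.eq_one_iff _).2 (Subgroup.mem_subgroupOf.2 he), map_one]
  let Fix : (Z →* ℂˣ) → K → Prop := fun δ a =>
    ∀ z : Z, ∃ hz : a * (z : K) * a⁻¹ ∈ Z, δ ⟨_, hz⟩ = δ z
  have hFixε : ∀ δ, Ext δ → ∀ a, Fix δ a → a • ε = ε := fun δ hδ a ha =>
    (lin_smul_eq_iff a ε).2 fun e => by
      obtain ⟨hz, hd⟩ := ha ⟨e, hEZ e.2⟩
      have he' : a * (e : K) * a⁻¹ ∈ E := c.normal.conj_mem _ e.2 a
      have h1 : δ ⟨_, hEZ he'⟩ = δ ⟨e, hEZ e.2⟩ := hd
      rw [hδ _ he', hδ _ e.2] at h1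
      exact (congrArg ε (Subtype.ext (MulAut.conjNormal_apply a e))).trans h1
  have hFixmul : ∀ δ a b, Fix δ a → Fix δ b → Fix δ (a * b) := by
    intro δ a b ha hb z
    obtain ⟨hz, hd⟩ := hb z
    obtain ⟨hz', hd'⟩ := ha ⟨_, hz⟩
    have e1 : a * b * (z : K) * (a * b)⁻¹ = a * (b * z * b⁻¹) * a⁻¹ := by group
    refine ⟨e1 ▸ hz', ?_⟩
    rw [← hd, ← hd']
    exact congrArg δ (Subtype.ext e1)
  have hFixpow : ∀ δ a, Fix δ a → ∀ n : ℕ, Fix δ (a ^ n) := by
    intro δ a ha n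
    induction n with
    | zero =>
      intro z
      refine ⟨by simp, congrArg δ (Subtype.ext (by simp))⟩
    | succ n ih => rw [pow_succ']; exact hFixmul δ a _ ha ih
  -- an element of order prime to `q` outside `S₀` fixes at most one extension
  have huniq : ∀ a ∈ Hs P, a ∉ Szero P → (orderOf a).Coprime q → ∀ δ δ', Ext δ → Ext δ' →
      Fix δ a → Fix δ' a → δ = δ' := by
    intro a haH haS hco δ δ' hδ hδ' hfix hfix'
    set μ : Z →* ℂˣ := δ' * δ⁻¹ with hμ
    have hμE : ∀ e (he : e ∈ E), μ ⟨e, hEZ he⟩ = 1 := fun e he => by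
      rw [hμ, MonoidHom.mul_apply, MonoidHom.inv_apply, hδ e he, hδ' e he, mul_inv_cancel]
    have hμfix : ∀ n : ℕ, ∀ z : Z, ∃ hz : a ^ n * (z : K) * (a ^ n)⁻¹ ∈ Z,
        μ ⟨_, hz⟩ = μ z := fun n z => by
      obtain ⟨hz, hd⟩ := hFixpow δ a hfix n z
      obtain ⟨_, hd'⟩ := hFixpow δ' a hfix' n z
      exact ⟨hz, by rw [hμ, MonoidHom.mul_apply, MonoidHom.inv_apply, MonoidHom.mul_apply,
        MonoidHom.inv_apply, hd, hd']⟩
    obtain ⟨v, hv⟩ : ∃ v : Lin (Rs p K), ∀ n : Z.subgroupOf (Rs p K),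
        v n = μ (Subgroup.subgroupOfEquivOfLe hZR n) :=
      exists_linExt (G := Rs p K) (Z.subgroupOf (Rs p K))
      (μ.comp (Subgroup.subgroupOfEquivOfLe hZR).toMonoidHom) fun n hn => by
        have h1 : ((n : Rs p K) : K) ∈ E := by
          rw [c.eq, ← Subgroup.map_subtype_commutator]; exact Subgroup.mem_map_of_mem _ hn
        exact hμE _ h1
    set o := orderOf a with ho
    have hfixed : a • (∏ i ∈ Finset.range o, a ^ i • (v : Lin (Rs p K))) =
        ∏ i ∈ Finset.range o, a ^ i • (v : Lin (Rs p K)) := by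
      rw [Finset.smul_prod']
      have h1 := Finset.prod_range_succ' (fun i => a ^ i • (v : Lin (Rs p K))) o
      rw [Finset.prod_range_succ, ho, pow_orderOf_eq_one, pow_zero, ← ho] at h1
      calc ∏ i ∈ Finset.range o, a • a ^ i • (v : Lin (Rs p K))
          = ∏ i ∈ Finset.range o, a ^ (i + 1) • (v : Lin (Rs p K)) :=
            Finset.prod_congr rfl fun i _ => by rw [← mul_smul, pow_succ']
        _ = _ := (mul_right_cancel h1).symm
    have hone : ∏ i ∈ Finset.range o, a ^ i • (v : Lin (Rs p K)) = 1 := by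
      by_contra hne
      exact haS (h.mem_Szero_of_fixed haH hne hfixed)
    refine (mul_inv_eq_one.1 (MonoidHom.ext fun z => ?_ : δ' * δ⁻¹ = 1)).symm
    have h2 := DFunLike.congr_fun hone (⟨z, hZR z.2⟩ : Rs p K)
    rw [Lin.prod_apply, Lin.one_apply, Finset.prod_congr rfl (g := fun _ => μ z) (fun i hi => by
      rw [lin_smul_apply]
      obtain ⟨hz, hd⟩ := hμfix (o - i) z
      have hinv : (a ^ i)⁻¹ = a ^ (o - i) := by
        rw [inv_eq_iff_mul_eq_one, ← pow_add, Nat.add_sub_cancel' (Finset.mem_range.1 hi).le, ho,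
          pow_orderOf_eq_one]
      rw [← hd]
      refine Eq.trans ?_ (hv ⟨⟨_, hZR hz⟩, hz⟩)
      refine congrArg v (Subtype.ext ?_)
      rw [MulAut.conjNormal_apply, hinv]), Finset.prod_const, Finset.card_range] at h2
    obtain ⟨n, hn⟩ := (hRq.to_le hZR).exists_card_eq
    have h3 : μ z ^ q ^ n = 1 := by rw [← map_pow, ← hn, pow_card_eq_one', map_one]
    rw [MonoidHom.one_apply]
    exact orderOf_eq_one_iff.1 (Nat.eq_one_of_dvd_coprimes (hco.pow_right n)
      (orderOf_dvd_of_pow_eq_one h2) (orderOf_dvd_of_pow_eq_one h3))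
  have hqpart : ∀ a ∈ Hs P, a ∉ Szero P → ∃ i : ℕ, a ^ i ∈ Hs P ∧ a ^ i ∉ Szero P ∧
      (orderOf (a ^ i)).Coprime q := by
    intro a ha haS
    obtain ⟨i, o, ho, hoa⟩ := Nat.exists_eq_pow_mul_and_not_dvd (orderOf_pos a).ne' q c.q_prime.ne_one
    refine ⟨q ^ i, (Hs P).pow_mem ha _, fun hmem => haS (hS0pow ha hmem
      (((c.q_prime.coprime_iff_not_dvd).2 hqm).pow_left i)), ?_⟩
    refine Nat.Coprime.coprime_dvd_left (orderOf_dvd_of_pow_eq_one ?_)
      ((c.q_prime.coprime_iff_not_dvd).2 ho).symm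
    rw [← pow_mul, ← hoa, pow_orderOf_eq_one]
  -- a good extension
  obtain ⟨δ, hδ, hgood⟩ : ∃ δ, Ext δ ∧ ∀ a ∈ Hs P, Fix δ a → a ∈ Szero P := by
    by_contra! hbad
    have hδ₁ : Ext (δ₀ * μ₀) := fun e he => by
      rw [MonoidHom.mul_apply, hδ₀ e he, hμ₀E e he, mul_one]
    obtain ⟨a₁, ha₁, hf₁, hn₁⟩ := hbad δ₀ hδ₀
    obtain ⟨a₂, ha₂, hf₂, hn₂⟩ := hbad _ hδ₁
    obtain ⟨i₁, hb₁H, hb₁S, hb₁o⟩ := hqpart a₁ ha₁ hn₁
    obtain ⟨i₂, hb₂H, hb₂S, hb₂o⟩ := hqpart a₂ ha₂ hn₂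
    have hf₁' := hFixpow _ _ hf₁ i₁
    have hf₂' := hFixpow _ _ hf₂ i₂
    generalize a₁ ^ i₁ = b₁ at hb₁H hb₁S hb₁o hf₁'
    generalize a₂ ^ i₂ = b₂ at hb₂H hb₂S hb₂o hf₂'
    have hb₁ε := hFixε δ₀ hδ₀ b₁ hf₁'
    -- the second extension moved by `b₁`
    let δ₃ : Z →* ℂˣ := (δ₀ * μ₀).comp (MonoidHom.mk'
      (fun z : Z => (⟨b₁ * z * b₁⁻¹, hZnorm b₁ hb₁ε z z.2⟩ : Z))
      fun a b => Subtype.ext (by simp [mul_assoc]))
    have hδ₃ : Ext δ₃ := fun e he => by
      have he' : b₁ * e * b₁⁻¹ ∈ E := c.normal.conj_mem _ he b₁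
      show (δ₀ * μ₀) ⟨b₁ * e * b₁⁻¹, hEZ he'⟩ = ε ⟨e, he⟩
      rw [hδ₁ _ he', ← (lin_smul_eq_iff b₁ ε).1 hb₁ε ⟨e, he⟩]
      exact congrArg ε (Subtype.ext (MulAut.conjNormal_apply b₁ ⟨e, he⟩).symm)
    have hf₃ : Fix δ₃ b₂ := fun z => by
      obtain ⟨hz, -⟩ := hf₂' z
      refine ⟨hz, ?_⟩
      obtain ⟨hz', hd'⟩ := hf₂' ⟨_, hZnorm b₁ hb₁ε z z.2⟩
      show (δ₀ * μ₀) ⟨b₁ * (b₂ * z * b₂⁻¹) * b₁⁻¹, _⟩ = (δ₀ * μ₀) ⟨b₁ * z * b₁⁻¹, _⟩
      rw [← hd']
      refine congrArg _ (Subtype.ext ?_)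
      show b₁ * (b₂ * (z : K) * b₂⁻¹) * b₁⁻¹ = b₂ * (b₁ * (z : K) * b₁⁻¹) * b₂⁻¹
      have hcm := hHHcent _ (Subgroup.commutator_mem_commutator hb₁H hb₂H) (b₂ * b₁ * (z : K) *
        (b₂ * b₁)⁻¹) (Subgroup.Normal.conj_mem inferInstance _ (hZR z.2) _)
      calc b₁ * (b₂ * (z : K) * b₂⁻¹) * b₁⁻¹
          = ⁅b₁, b₂⁆ * (b₂ * b₁ * (z : K) * (b₂ * b₁)⁻¹) * ⁅b₁, b₂⁆⁻¹ := by
            rw [commutatorElement_def]; group
        _ = _ := by rw [hcm, mul_inv_cancel_right]; group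
    have h32 := huniq b₂ hb₂H hb₂S hb₂o δ₃ (δ₀ * μ₀) hδ₃ hδ₁ hf₃ hf₂'
    have hf₁₂ : Fix (δ₀ * μ₀) b₁ := fun z =>
      ⟨hZnorm b₁ hb₁ε z z.2, DFunLike.congr_fun h32 z⟩
    have h01 := huniq b₁ hb₁H hb₁S hb₁o δ₀ (δ₀ * μ₀) hδ₀ hδ₁ hf₁' hf₁₂
    exact hμ₀w (mul_eq_left.1 (DFunLike.congr_fun h01.symm ⟨w, hwZ⟩))
  -- the degree over it
  haveI : (Z.subgroupOf (Rs p K)).Normal := ⟨fun z hz g => by
    rw [Subgroup.mem_subgroupOf] at hz ⊢
    simpa using hZR' _ hz g g.2⟩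
  haveI := Fintype.ofFinite (Z.subgroupOf (Rs p K))
  set θ : IrrCharacter (Z.subgroupOf (Rs p K)) :=
    irrOf (Z.subgroupOf (Rs p K)) (δ.comp (Subgroup.subgroupOfEquivOfLe hZR).toMonoidHom) with hθdef
  have hθval : ∀ n : Z.subgroupOf (Rs p K),
      θ.1 n = ((δ ⟨((n : Rs p K) : K), n.2⟩ : ℂˣ) : ℂ) := fun _ => rfl
  obtain ⟨η, hη⟩ := exists_above (Z.subgroupOf (Rs p K)) θ
  have horbit : ∀ g, conjFun (Z.subgroupOf (Rs p K)) θ.1 g = θ.1 := by
    intro g
    refine (conjFun_eq_self_iff _ _ g).2 fun n n' hn' => ?_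
    rw [hθval, hθval]
    refine congrArg Units.val ?_
    have hz : ⁅(g : K), ((n : Rs p K) : K)⁆ ∈ E := hcR _ g.2 _ (hZR n.2)
    have h1 : ε ⟨_, hz⟩ = 1 := by
      have h2 := (hZiff _ (hZR n.2)).1 n.2 (g : K) g.2
      rw [show (⟨_, hz⟩ : E) = (⟨⁅((n : Rs p K) : K), (g : K)⁆, hcR _ (hZR n.2) _ g.2⟩ : E)⁻¹ from
        Subtype.ext (commutatorElement_inv ((n : Rs p K) : K) (g : K)).symm, map_inv]
      exact inv_eq_one.2 h2
    rw [show (⟨((n' : Rs p K) : K), n'.2⟩ : Z) =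
      ⟨_, hEZ hz⟩ * (⟨((n : Rs p K) : K), n.2⟩ : Z) from Subtype.ext (by
        show ((n' : Rs p K) : K) = ⁅(g : K), ((n : Rs p K) : K)⁆ * ((n : Rs p K) : K)
        rw [hn', commutatorElement_def, inv_mul_cancel_right]
        rfl), map_mul, hδ _ hz, h1, one_mul]
  have hηval : ∀ n : Z.subgroupOf (Rs p K), η.1 n = η.1 1 * θ.1 n := by
    have horb : orbitSum (Z.subgroupOf (Rs p K)) θ = θ.1 := by
      have : orbitFinset (Z.subgroupOf (Rs p K)) θ = {θ} := by
        ext η'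
        rw [mem_orbitFinset, Finset.mem_singleton]
        exact ⟨fun ⟨g, hg⟩ => hg.trans (Subtype.ext (horbit g)),
          fun h1 => ⟨1, h1.trans (Subtype.ext (horbit 1).symm)⟩⟩
      rw [orbitSum, this, Finset.sum_singleton]
    have h1 := resFun_eq_smul_orbitSum _ η θ hη
    rw [horb] at h1
    have hc1 := congrFun h1 1
    rw [resFun_apply, Subgroup.coe_one, Pi.smul_apply, smul_eq_mul, hθval,
      show (⟨(((1 : Z.subgroupOf (Rs p K)) : Rs p K) : K), (1 : Z.subgroupOf (Rs p K)).2⟩ : Z) = 1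
        from Subtype.ext rfl, map_one, Units.val_one, mul_one] at hc1
    intro n
    have h2 := congrFun h1 n
    rw [resFun_apply, Pi.smul_apply, smul_eq_mul, ← hc1] at h2
    exact h2
  have hinert : inertia (Rs p K) η.1 ≤ Rs p K ⊔ Szero P := by
    intro g hg
    obtain ⟨e, he, a, ha, rfl⟩ := h.exists_mul g
    refine Subgroup.mul_mem_sup he ?_
    have hmem : a ∈ inertia (Rs p K) η.1 := by
      have := (inertia (Rs p K) η.1).mul_mem
        ((inertia (Rs p K) η.1).inv_mem (irr_le_inertia (Rs p K) η he)) hg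
      rwa [inv_mul_cancel_left] at this
    have hval := (conjFun_eq_self_iff (Rs p K) η.1 a).1 hmem
    have hη0 : η.1 1 ≠ 0 := IsIrrCharacter.apply_one_ne_zero η.2
    have key : ∀ z (hz : z ∈ Z) (hz' : a * z * a⁻¹ ∈ Z), δ ⟨_, hz'⟩ = δ ⟨z, hz⟩ := by
      intro z hz hz'
      have h1 := hval ⟨z, hZR hz⟩ ⟨_, hZR hz'⟩ rfl
      rw [hηval ⟨⟨_, hZR hz'⟩, hz'⟩, hηval ⟨⟨z, hZR hz⟩, hz⟩, hθval, hθval] at h1
      exact Units.ext (mul_left_cancel₀ hη0 h1)
    have haε : a • ε = ε := (lin_smul_eq_iff a ε).2 fun e' => by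
      have he' : a * (e' : K) * a⁻¹ ∈ E := c.normal.conj_mem _ e'.2 a
      have h1 := key e' (hEZ e'.2) (hEZ he')
      rw [hδ _ he', hδ _ e'.2] at h1
      exact (congrArg ε (Subtype.ext (MulAut.conjNormal_apply a e'))).trans h1
    exact hgood a ha fun z => ⟨hZnorm a haε z z.2, key z z.2 _⟩
  have hidx : m₀ ∣ (inertia (Rs p K) η.1).index := by
    rw [hm₀, ← h.index_sup_Szero]
    exact Subgroup.index_dvd_of_le hinert
  obtain ⟨χ, hχ⟩ := exists_above (Rs p K) η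
  have hdvd := index_mul_degree_dvd (Rs p K) χ η hχ
  have hm0 : 1 < m₀ := by
    have h1 : m₀ ≠ 1 := by rw [← hθ₀]; exact hθ₀1
    have h2 : m₀ ≠ 0 := Subgroup.index_ne_zero_of_finite
    omega
  have hm0χ : m₀ ∣ degree χ := (hidx.mul_right _).trans hdvd
  have hχ1 : degree χ ≠ 1 := fun e => hm0.ne' (Nat.dvd_one.1 (e ▸ hm0χ))
  have heq := h.anti θ₀ χ hθ₀1 hχ1 (by rw [hθ₀]; exact hm0χ)
  rw [← heq, hθ₀] at hdvd
  have hη1 : degree η = 1 := by
    obtain ⟨j, hj⟩ := hidx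
    rw [hj, mul_assoc] at hdvd
    have h4 : j * degree η ∣ 1 := by
      have := hdvd
      rwa [← mul_one m₀, mul_assoc, one_mul,
        Nat.mul_dvd_mul_iff_left (Nat.zero_lt_of_lt hm0)] at this
    exact Nat.eq_one_of_mul_eq_one_left (Nat.dvd_one.1 h4)
  obtain ⟨l, hl⟩ := IsCharacter.exists_monoidHom (irr_isCharacter η)
    (by rw [apply_one_eq_degree, hη1, Nat.cast_one])
  refine hε (Lin.ext fun e => Units.ext ?_)
  have h1 : (⟨e, c.le_Rs e.2⟩ : Rs p K) ∈ commutator (Rs p K) := by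
    have : (e : K) ∈ (commutator (Rs p K)).map (Rs p K).subtype := by
      rw [Subgroup.map_subtype_commutator, ← c.eq]; exact e.2
    obtain ⟨b, hb, hbe⟩ := this
    rwa [← show b = ⟨e, c.le_Rs e.2⟩ from Subtype.ext hbe]
  have h2 : η.1 ⟨e, c.le_Rs e.2⟩ = 1 := by
    rw [← hl]
    exact congrArg Units.val
      (MonoidHom.mem_ker.1 (Abelianization.commutator_subset_ker l.toHomUnits h1))
  rw [hηval ⟨⟨e, c.le_Rs e.2⟩, hEZ e.2⟩, hθval, apply_one_eq_degree, hη1, Nat.cast_one, one_mul]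
    at h2
  rw [hδ (e : K) e.2] at h2
  exact h2

end Crit

end Cfsg.Agent.NonDivDeg
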