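import Cfsg.Agent.Lib.RelDeg.LinAction
import Cfsg.Agent.Lib.Char.CliffordCorrespondence
import Cfsg.Agent.Lib.Char.TwoDegrees
import Cfsg.Agent.Lib.Char.InducedEq

/-!
# Characters of semidirect products and vanishing at moved elements

* `exists_degree_over` : for a complement `H` of the normal subgroup `N` and a linear character `f` of
  `N` with stabiliser `S` in `H`, every irreducible `β` of `S` gives a degree `[H : S] β(1)`.
* `apply_eq_zero_of_moved`, `card_centralizer_eq_of_vanish` : if an automorphism fixes all non-linear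
  irreducible characters, they vanish at the elements it moves modulo the derived subgroup, whose
  centralisers then have order `|G : G′|`.
-/

set_option autoImplicit false
set_option linter.style.haveILetI false
set_option linter.unusedSectionVars false

namespace Cfsg.Agent.NonDivDeg

open Cfsg.Agent.Char Cfsg.Agent.RelDeg
open scoped ComplexConjugate

universe u

variable {G : Type u} [Group G]

theorem apply_eq_zero_of_moved [Finite G] (σ : MulAut G)
    (hinv : ∀ ψ : IrrCharacter G, degree ψ ≠ 1 → ∀ g, ψ.1 (σ g) = ψ.1 g)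
    {y : G} (hy : σ y * y⁻¹ ∉ commutator G) {ψ : IrrCharacter G} (hψ : degree ψ ≠ 1) :
    ψ.1 y = 0 := by
  haveI := Fintype.ofFinite G
  haveI : Finite (Abelianization G) := Finite.of_surjective (Abelianization.of (G := G))
    QuotientGroup.mk_surjective
  obtain ⟨v, hv⟩ : ∃ v : Abelianization G →* ℂˣ, v (Abelianization.of (σ y * y⁻¹)) ≠ 1 := by
    by_contra! h
    have h1 : Abelianization.of (σ y * y⁻¹) = 1 :=
      eq_one_of_forall_hom (H := Abelianization G) (fun a b => mul_comm a b) h
    exact hy ((QuotientGroup.eq_one_iff _).1 h1)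
  let μ : G →* ℂ := ((Units.coeHom ℂ).comp v).comp Abelianization.of
  let φ : IrrCharacter G := ⟨⇑μ * ψ.1, IsIrrCharacter.mul_linear ψ.2 μ⟩
  have hφ : degree φ ≠ 1 := fun h => hψ (degree_eq_of_apply_one (by
    have h1 : φ.1 1 = μ 1 * ψ.1 1 := rfl
    rw [apply_one_eq_degree, h, map_one, one_mul] at h1
    rw [← h1]))
  have h : μ (σ y) * ψ.1 (σ y) = μ y * ψ.1 y := hinv φ hφ y
  rw [hinv ψ hψ y] at h
  rcases mul_eq_mul_right_iff.1 h with h' | h'
  · exfalso
    refine hv (Units.ext ?_)
    have hμ : μ (σ y * y⁻¹) = 1 := by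
      rw [map_mul, h', ← map_mul, mul_inv_cancel, map_one]
    exact hμ
  · exact h'

theorem card_centralizer_eq_of_vanish [Fintype G] {y : G}
    (h : ∀ ψ : IrrCharacter G, degree ψ ≠ 1 → ψ.1 y = 0) :
    Nat.card (Subgroup.centralizer ({y} : Set G)) = (commutator G).index := by
  classical
  have h1 := sum_irr_mul_conj y y
  rw [if_pos (IsConj.refl y)] at h1
  have h2 : ∀ χ : IrrCharacter G, χ.1 y * conj (χ.1 y) = if χ.1 1 = 1 then 1 else 0 := by
    intro χ
    split_ifs with hχ
    · obtain ⟨l, hl⟩ := IsCharacter.exists_monoidHom (irr_isCharacter χ) hχ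
      rw [← hl]
      exact normSq_linear l y
    · rw [h χ (fun hd => hχ (by rw [apply_one_eq_degree, hd, Nat.cast_one])), zero_mul]
  rw [Finset.sum_congr rfl fun χ _ => h2 χ, Finset.sum_boole] at h1
  rw [← card_linear, Nat.card_eq_fintype_card (α := {χ : IrrCharacter G // χ.1 1 = 1}),
    Fintype.card_subtype]
  exact_mod_cast h1.symm

theorem index_commutator_le_card_centralizer {H : Type u} [Group H] [Finite H] (y : H) :
    (commutator H).index ≤ Nat.card (Subgroup.centralizer ({y} : Set H)) := by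
  haveI := Fintype.ofFinite H
  have h1 := card_centralizer_mul_card_conj y
  have h2 : Nat.card {x : H // IsConj y x} ≤ Nat.card (commutator H) := by
    refine Nat.card_le_card_of_injective
      (fun x => (⟨x.1 * y⁻¹, ?_⟩ : commutator H)) fun a b h => Subtype.ext ?_
    · obtain ⟨c, hc⟩ := isConj_iff.1 x.2
      rw [← hc]
      exact Subgroup.commutator_mem_commutator (Subgroup.mem_top c) (Subgroup.mem_top y)
    · exact mul_right_cancel (congrArg Subtype.val h)
  rw [← (commutator H).card_mul_index] at h1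
  by_contra hlt
  have : Nat.card (Subgroup.centralizer ({y} : Set H)) * Nat.card {x : H // IsConj y x} <
      (commutator H).index * Nat.card (commutator H) :=
    lt_of_le_of_lt (Nat.mul_le_mul_left _ h2) (Nat.mul_lt_mul_of_pos_right (not_le.1 hlt) Nat.card_pos)
  rw [h1, mul_comm] at this
  exact lt_irrefl _ this

variable [Fintype G] (N : Subgroup G) [N.Normal] [Fintype N]

theorem inertia_irrOf (f : Lin N) : inertia N (irrOf N f).1 = MulAction.stabilizer G f := by
  ext g
  rw [mem_inertia, ← inv_mem_iff (H := MulAction.stabilizer G f), MulAction.mem_stabilizer_iff]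
  constructor
  · intro h
    refine Lin.ext fun n => Units.ext ?_
    rw [lin_smul_apply, inv_inv]
    exact congrFun h n
  · intro h
    refine funext fun n => ?_
    have h1 := congrArg Units.val (congrArg (fun f' : Lin N => f' n) h)
    simp only [lin_smul_apply, inv_inv] at h1
    exact h1

theorem self_le_stabilizer (f : Lin N) : N ≤ MulAction.stabilizer G f :=
  inertia_irrOf N f ▸ irr_le_inertia N (irrOf N f)

/-- Degrees over a linear character of a normal subgroup with a complement. -/
theorem exists_degree_over (H : Subgroup G) (hd : Disjoint N H) (hs : N ⊔ H = ⊤) (f : Lin N)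
    {S : Subgroup G} (hS : S = MulAction.stabilizer G f ⊓ H) (β : IrrCharacter S) :
    ∃ χ : IrrCharacter G, degree χ = S.relIndex H * degree β := by
  classical
  set θ := irrOf N f with hθ
  set I := inertia N θ.1 with hI
  haveI := Fintype.ofFinite I
  have hIe : I = MulAction.stabilizer G f := inertia_irrOf N f
  have hNI : N ≤ I := irr_le_inertia N θ
  have hex : ∀ x : G, ∃ n : N, (n : G)⁻¹ * x ∈ H := fun x => by
    obtain ⟨n, hn, h, hh, rfl⟩ := Subgroup.mem_sup_of_normal_left.1
      (hs ▸ Subgroup.mem_top x : x ∈ N ⊔ H)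
    exact ⟨⟨n, hn⟩, by rwa [inv_mul_cancel_left]⟩
  have huniq : ∀ (x : G) (a b : N), (a : G)⁻¹ * x ∈ H → (b : G)⁻¹ * x ∈ H → a = b := by
    intro x a b ha hb
    refine inv_mul_eq_one.1 (Subtype.ext (Subgroup.disjoint_def.1 hd (a⁻¹ * b).2 ?_))
    simpa [mul_assoc] using mul_mem ha (inv_mem hb)
  choose c hc using hex
  have hcS : ∀ t : I, (c (t : G) : G)⁻¹ * (t : G) ∈ S := fun t => by
    rw [hS]
    have h1 : (c (t : G) : G)⁻¹ * (t : G) ∈ I := mul_mem (inv_mem (hNI (c (t : G)).2)) t.2
    exact ⟨(hIe.le : I ≤ MulAction.stabilizer G f) h1, hc _⟩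
  have key : ∀ s t : I, c ((s * t : I) : G) =
      c (s : G) * MulAut.conjNormal ((c (s : G) : G)⁻¹ * (s : G)) (c (t : G)) := fun s t => by
    refine huniq _ _ _ (hc _) ?_
    simpa [mul_assoc] using mul_mem (hc (s : G)) (hc (t : G))
  let F : I →* ℂ := (Units.coeHom ℂ).comp
    (MonoidHom.mk' (fun t : I => f (c (t : G))) fun s t => by
      show f (c ((s * t : I) : G)) = f (c (s : G)) * f (c (t : G))
      rw [key, map_mul]
      congr 1
      have h1 : ((c (s : G) : G)⁻¹ * (s : G))⁻¹ • f = f :=
        MulAction.mem_stabilizer_iff.1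
          (inv_mem ((hS ▸ hcS s : ((c (s : G) : G)⁻¹ * (s : G)) ∈ MulAction.stabilizer G f ⊓ H).1 :
            ((c (s : G) : G)⁻¹ * (s : G)) ∈ MulAction.stabilizer G f))
      conv_rhs => rw [← h1]
      rw [lin_smul_apply, inv_inv])
  let π : I →* S := MonoidHom.mk' (fun t => ⟨(c (t : G) : G)⁻¹ * (t : G), hcS t⟩) fun s t => by
    refine Subtype.ext ?_
    show (c ((s * t : I) : G) : G)⁻¹ * ((s : G) * t) = _ * _
    rw [key, Subgroup.coe_mul, MulAut.conjNormal_apply]
    group
  have hπ : Function.Surjective π := fun s => by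
    have hs' : (s : G) ∈ MulAction.stabilizer G f ⊓ H := hS ▸ s.2
    refine ⟨⟨s, hIe ▸ hs'.1⟩, Subtype.ext ?_⟩
    show (c (s : G) : G)⁻¹ * (s : G) = s
    rw [huniq (s : G) (c (s : G)) 1 (hc _) (by simpa using hs'.2)]
    simp
  have hcn : ∀ n : N, c ((Subgroup.inclusion hNI n : I) : G) = n := fun n =>
    huniq _ _ _ (hc _) (by simp)
  let ψ : IrrCharacter I :=
    ⟨⇑F * fun t => β.1 (π t), IsIrrCharacter.mul_linear (IsIrrCharacter.comp_surjective β.2 π hπ) F⟩
  have hres : resIncl N hNI ψ.1 = β.1 1 • θ.1 := funext fun n => by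
    show F (Subgroup.inclusion hNI n) * β.1 (π (Subgroup.inclusion hNI n)) = β.1 1 * θ.1 n
    have h1 : π (Subgroup.inclusion hNI n) = 1 := Subtype.ext (by
      show (c ((Subgroup.inclusion hNI n : I) : G) : G)⁻¹ * (n : G) = 1
      rw [hcn, inv_mul_cancel])
    rw [h1, mul_comm]
    congr 1
    show ((f (c ((Subgroup.inclusion hNI n : I) : G)) : ℂˣ) : ℂ) = _
    rw [hcn]
    rfl
  have hover : classInner (resIncl N hNI ψ.1) θ.1 ≠ 0 := by
    rw [hres, classInner_smul_left, classInner_irr_self θ.2, mul_one, apply_one_eq_degree]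
    exact Nat.cast_ne_zero.2 (degree_pos β).ne'
  refine ⟨cliffordInduce N θ ⟨ψ, hover⟩, degree_eq_of_apply_one ?_⟩
  rw [cliffordInduce_apply_one]
  have hψ1 : ψ.1 1 = β.1 1 := by
    show F 1 * β.1 (π 1) = β.1 1
    rw [map_one, map_one, one_mul]
  rw [hψ1, apply_one_eq_degree, Nat.cast_mul]
  congr 2
  -- `[G : I] = [H : S]`
  have h1 : S = I ⊓ H := by rw [hIe, hS]
  have h2 : I ⊔ H = ⊤ := le_antisymm le_top (hs ▸ sup_le_sup_right hNI H)
  rw [h1, Subgroup.inf_relIndex_right]
  have h3 : Function.Bijective (fun x : H ⧸ I.subgroupOf H => Quotient.map' (Subtype.val)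
      (fun a b hab => by
        rw [QuotientGroup.leftRel_apply] at hab ⊢
        exact hab) x : H ⧸ I.subgroupOf H → G ⧸ I) := by
    refine ⟨?_, ?_⟩
    · intro a b hab
      induction a using QuotientGroup.induction_on with | _ a => ?_
      induction b using QuotientGroup.induction_on with | _ b => ?_
      refine QuotientGroup.eq.2 (Subgroup.mem_subgroupOf.2 ?_)
      have h5 : QuotientGroup.leftRel I (a : G) (b : G) := Quotient.exact hab
      rw [QuotientGroup.leftRel_apply] at h5
      exact h5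
    · intro x
      induction x using QuotientGroup.induction_on with | _ x => ?_
      have h4 : (c x⁻¹ : G)⁻¹ * x⁻¹ ∈ H := hc x⁻¹
      refine ⟨QuotientGroup.mk ⟨x * (c x⁻¹ : G), by simpa using inv_mem h4⟩, ?_⟩
      show ((x * (c x⁻¹ : G) : G) : G ⧸ I) = x
      exact QuotientGroup.mk_mul_of_mem x (hNI (c x⁻¹).2)
  show I.index = Nat.card (H ⧸ I.subgroupOf H)
  rw [Subgroup.index, Nat.card_congr (Equiv.ofBijective _ h3)]
  rfl

theorem index_mul_degree_dvd (χ : IrrCharacter G) (θ : IrrCharacter N)
    (hθ : classInner (resFun N χ.1) θ.1 ≠ 0) :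
    (inertia N θ.1).index * degree θ ∣ degree χ := by
  obtain ⟨e, he⟩ := exists_mult N χ θ
  exact ⟨e, by rw [degree_eq_mul N χ θ he hθ, index_inertia]; ring⟩

end Cfsg.Agent.NonDivDeg
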