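import Cfsg.Agent.Lib.NonDivDeg.Reduction

/-!
# A critical counterexample: `[R, R]` is the unique minimal invariant normal subgroup inside `R`

`Crit` collects what a counterexample of least order to the commutativity of `R = [Q, K]` satisfies.
-/

set_option autoImplicit false
set_option linter.style.haveILetI false
set_option linter.unusedSectionVars false

namespace Cfsg.Agent.NonDivDeg

open Cfsg.Agent Cfsg.Agent.Char Cfsg.Agent.RelDeg
open scoped commutatorElement Pointwise

universe u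

variable {K : Type u} [Group K] [Fintype K] {r p q : ℕ} [Fact p.Prime] {σ : MulAut K}
  {P : Sylow p K}

theorem map_eq_of_forall_mem (e : MulAut K) (F : Subgroup K) (h : ∀ x ∈ F, e x ∈ F) :
    F.map e.toMonoidHom = F := by
  refine Subgroup.eq_of_le_of_card_ge ?_ ?_
  · rintro _ ⟨u, hu, rfl⟩; exact h u hu
  · rw [Nat.card_congr (F.equivMapOfInjective e.toMonoidHom e.injective).toEquiv]

namespace Setup

/-- A moved element `x` of `P` gives the moved element `σ x · x⁻¹` of `P`. -/
theorem moved_diff (h : Setup r p K σ P) {x : K} (hx : x ∈ (P : Subgroup K)) (hxm : Moved σ x) :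
    σ x * x⁻¹ ∈ (P : Subgroup K) ∧ Moved σ (σ x * x⁻¹) := by
  have hz : σ x * x⁻¹ ∈ (P : Subgroup K) :=
    (P : Subgroup K).mul_mem (h.map_P x hx) ((P : Subgroup K).inv_mem hx)
  refine ⟨hz, ?_⟩
  rw [moved_iff]
  intro he
  set z := σ x * x⁻¹ with hzdef
  set f : Abelianization K →* Abelianization K := Abelianization.map σ.toMonoidHom
  have hf : ∀ y : K, f (Abelianization.of y) = Abelianization.of (σ y) :=
    fun y => Abelianization.map_of _ y
  have hx1 : Abelianization.of (σ x) = Abelianization.of z * Abelianization.of x := by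
    rw [← map_mul, hzdef, inv_mul_cancel_right]
  have hn : ∀ n : ℕ, Abelianization.of ((σ ^ n) x) = Abelianization.of z ^ n * Abelianization.of x := by
    intro n
    induction n with
    | zero => simp
    | succ n ih =>
      rw [pow_succ', MulAut.mul_apply, ← hf, ih, map_mul, map_pow, hf, hf, he, hx1, pow_succ,
        mul_assoc]
  obtain ⟨k, -, -, hk⟩ := h.inner'
  have hr : Abelianization.of z ^ r = 1 := by
    have h1 := hn r
    rw [hk, MulAut.conj_apply, map_mul, map_mul, map_inv, mul_comm, inv_mul_cancel_left] at h1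
    exact right_eq_mul.1 h1
  obtain ⟨n, hn'⟩ := P.2 ⟨z, hz⟩
  have hp' : Abelianization.of z ^ p ^ n = 1 := by
    rw [← map_pow, show z ^ p ^ n = 1 from congrArg Subtype.val hn', map_one]
  have hco : r.Coprime (p ^ n) := (((h.r_prime.coprime_iff_not_dvd).2
    fun hd => h.ne ((Nat.prime_dvd_prime_iff_eq h.r_prime h.p_prime).1 hd))).pow_right n
  have hz1 : Abelianization.of z = 1 := orderOf_eq_one_iff.1
    (Nat.eq_one_of_dvd_coprimes hco (orderOf_dvd_of_pow_eq_one hr) (orderOf_dvd_of_pow_eq_one hp'))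
  rw [hz1, one_mul] at hx1
  exact (moved_iff σ x).1 hxm hx1

theorem index_sup_Szero (h : Setup r p K σ P) :
    (Rs p K ⊔ Szero P).index = (Szero P).relIndex (Hs P) := by
  have h1 := card_sup_mul_inf (Rs p K) (Szero P)
  rw [le_bot_iff.1 ((inf_le_inf_left _ Szero_le).trans h.Rs_inf_Hs.le), Subgroup.card_bot,
    mul_one] at h1
  have h2 : Nat.card (Szero P) * (Szero P).relIndex (Hs P) = Nat.card (Hs P) := by
    rw [← Subgroup.relIndex_bot_left (H := Szero P), ← Subgroup.relIndex_bot_left (H := Hs P)]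
    exact Subgroup.relIndex_mul_relIndex _ _ _ bot_le Szero_le
  have h3 := (Rs p K ⊔ Szero P).card_mul_index
  rw [h.card_eq, ← h2, h1, mul_assoc] at h3
  exact Nat.eq_of_mul_eq_mul_left Nat.card_pos (Nat.eq_of_mul_eq_mul_left Nat.card_pos h3)

variable [Fintype (Rs p K)]

/-- `m₀ = [H : S₀]` is a non-linear degree. -/
theorem exists_degree_Szero (h : Setup r p K σ P) {v : Lin (Rs p K)} (hv : v ≠ 1) :
    ∃ θ : IrrCharacter K, degree θ = (Szero P).relIndex (Hs P) ∧ degree θ ≠ 1 := by
  haveI := Fintype.ofFinite (MulAction.stabilizer K v ⊓ Hs P : Subgroup K)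
  obtain ⟨θ, hθ⟩ := h.exists_degree v rfl (trivialChar _)
  have ht : degree (trivialChar (MulAction.stabilizer K v ⊓ Hs P : Subgroup K)) = 1 :=
    degree_eq_of_apply_one (by simp [trivialChar])
  have h1 := h.one_lt_relIndex hv
  rw [ht, mul_one] at hθ
  rw [← h.stabilizer_eq_Szero hv]
  exact ⟨θ, hθ, by omega⟩

end Setup

/-- A linear character that kills the element. -/
theorem mem_commutator_of_forall_lin (N : Subgroup K) [N.Normal] (z : N)
    (hz : ∀ v : Lin N, v z = 1) : (z : K) ∈ ⁅N, N⁆ := by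
  have h1 : Abelianization.of z = 1 := by
    refine eq_one_of_forall_hom (H := Abelianization N) (fun a b => mul_comm a b) fun v => ?_
    exact hz (v.comp Abelianization.of : N →* ℂˣ)
  rw [← Subgroup.map_subtype_commutator]
  exact ⟨z, (QuotientGroup.eq_one_iff _).1 h1, rfl⟩

theorem card_lin (N : Subgroup K) [N.Normal] :
    Nat.card (Lin N) = (⁅N, N⁆ : Subgroup K).relIndex N := by
  have e : Lin N ≃ (N →* ℂ) :=
    { toFun := fun f => (Units.coeHom ℂ).comp (f : N →* ℂˣ)
      invFun := fun f => f.toHomUnits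
      left_inv := fun f => Lin.ext fun n => Units.ext rfl
      right_inv := fun f => MonoidHom.ext fun n => rfl }
  rw [Nat.card_congr e, card_monoidHom_complex, ← Subgroup.map_subtype_commutator,
    Subgroup.relIndex, Subgroup.subgroupOf, Subgroup.comap_map_eq_self_of_injective N.subtype_injective]

/-- What a counterexample of least order satisfies: `E = [R, R]` is an elementary abelian
`q`-group and is contained in every non-trivial invariant normal subgroup inside `R`. -/
structure Crit (r p q : ℕ) (K : Type u) [Group K] (σ : MulAut K) (P : Sylow p K)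
    (E : Subgroup K) : Prop where
  setup : Setup r p K σ P
  eq : E = ⁅Rs p K, Rs p K⁆
  normal : E.Normal
  ne_bot : E ≠ ⊥
  q_prime : q.Prime
  pow_eq : ∀ e ∈ E, e ^ q = 1
  comm : ∀ a ∈ E, ∀ b ∈ E, a * b = b * a
  uniq : ∀ F : Subgroup K, F.Normal → (∀ x ∈ F, σ x ∈ F) → F ≤ Rs p K → F ≠ ⊥ → E ≤ F

theorem map_Qr_quotient (F : Subgroup K) [F.Normal] :
    (Qr p K).map (QuotientGroup.mk' F) = Qr p (K ⧸ F) :=
  Transfer.map_pResidual_of_surjective _ (QuotientGroup.mk'_surjective F) p

theorem map_Rs_quotient (F : Subgroup K) [F.Normal] :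
    (Rs p K).map (QuotientGroup.mk' F) = Rs p (K ⧸ F) := by
  rw [Rs, Rs, Subgroup.map_commutator, map_Qr_quotient,
    Subgroup.map_top_of_surjective _ (QuotientGroup.mk'_surjective F)]

/-- A counterexample of least order is critical. -/
theorem exists_crit [Group.IsSolvable K] (h : Setup r p K σ P)
    (ih : ∀ (L : Type u) [Group L] [Fintype L] [Group.IsSolvable L], Nat.card L < Nat.card K →
      ∀ τ : MulAut L, Hyp r p L τ → ⁅Rs p L, Rs p L⁆ = ⊥)
    (hne : ⁅Rs p K, Rs p K⁆ ≠ ⊥) : ∃ q E, Crit r p q K σ P E := by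
  set E : Subgroup K := ⁅Rs p K, Rs p K⁆ with hE
  haveI hEn : E.Normal := inferInstance
  have hEσ : ∀ x ∈ E, σ x ∈ E := by
    intro x hx
    have h1 := Subgroup.mem_map_of_mem σ.toMonoidHom hx
    rw [hE, Subgroup.map_commutator, map_eq_of_forall_mem σ _ fun y hy => h.map_Rs hy] at h1
    exact h1
  have huniq : ∀ F : Subgroup K, F.Normal → (∀ x ∈ F, σ x ∈ F) → F ≤ Rs p K → F ≠ ⊥ → E ≤ F := by
    intro F hF hFσ hFR hF1
    haveI := Fintype.ofFinite (K ⧸ F)
    have hlt : Nat.card (K ⧸ F) < Nat.card K := by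
      rw [← Subgroup.index_eq_card, ← F.card_mul_index]
      exact lt_mul_of_one_lt_left (Nat.pos_of_ne_zero Subgroup.index_ne_zero_of_finite)
        ((Subgroup.one_lt_card_iff_ne_bot _).2 hF1)
    have h1 := ih (K ⧸ F) hlt _ (h.toHyp.quotient F (map_eq_of_forall_mem σ F hFσ)
      (hFR.trans Rs_le_commutator))
    rw [← map_Rs_quotient, ← Subgroup.map_commutator, Subgroup.map_eq_bot_iff,
      QuotientGroup.ker_mk'] at h1
    exact h1
  have hER : E ≤ Rs p K := Subgroup.commutator_le_self _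
  have hcomm : ∀ a ∈ E, ∀ b ∈ E, a * b = b * a := by
    have h0 : ⁅E, E⁆ = ⊥ := by
      by_contra h0
      refine (Group.IsSolvable.commutator_lt_of_ne_bot hne).ne ?_
      refine le_antisymm (Subgroup.commutator_le_self _) (huniq _ inferInstance (fun x hx => ?_)
        ((Subgroup.commutator_le_self _).trans hER) h0)
      have h1 := Subgroup.mem_map_of_mem σ.toMonoidHom hx
      rw [Subgroup.map_commutator, map_eq_of_forall_mem σ E hEσ] at h1
      exact h1
    intro a ha b hb
    rw [← commutatorElement_eq_one_iff_mul_comm, ← Subgroup.mem_bot, ← h0]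
    exact Subgroup.commutator_mem_commutator ha hb
  obtain ⟨q, hq, hqd⟩ := Nat.exists_prime_and_dvd
    (fun h1 => hne (Subgroup.card_eq_one.1 h1) : Nat.card E ≠ 1)
  refine ⟨q, E, h, rfl, hEn, hne, hq, ?_, hcomm, huniq⟩
  let F : Subgroup K :=
    { carrier := {x | x ∈ E ∧ x ^ q = 1}
      one_mem' := ⟨E.one_mem, one_pow q⟩
      mul_mem' := fun {a b} ha hb =>
        ⟨mul_mem ha.1 hb.1, by rw [Commute.mul_pow (hcomm a ha.1 b hb.1), ha.2, hb.2, one_mul]⟩
      inv_mem' := fun {a} ha => ⟨inv_mem ha.1, by rw [inv_pow, ha.2, inv_one]⟩ }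
  haveI := Fact.mk hq
  obtain ⟨e, he⟩ := exists_prime_orderOf_dvd_card' q hqd
  have hFne : F ≠ ⊥ := by
    intro hF
    have h1 : (e : K) ∈ F := ⟨e.2, by rw [← SubgroupClass.coe_pow, ← he, pow_orderOf_eq_one]; rfl⟩
    rw [hF, Subgroup.mem_bot] at h1
    rw [show e = 1 from Subtype.ext h1, orderOf_one] at he
    exact hq.one_lt.ne he
  exact fun x hx => (huniq F ⟨fun x hx g =>
      ⟨hEn.conj_mem x hx.1 g, by rw [conj_pow, hx.2, mul_one, mul_inv_cancel]⟩⟩
    (fun x hx => ⟨hEσ x hx.1, by rw [← map_pow, hx.2, map_one]⟩) (fun x hx => hER hx.1) hFne hx).2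

namespace Crit

variable {E : Subgroup K}

theorem le_Rs (c : Crit r p q K σ P E) : E ≤ Rs p K := c.eq ▸ Subgroup.commutator_le_self _

theorem map_mem (c : Crit r p q K σ P E) {x : K} (hx : x ∈ E) : σ x ∈ E := by
  have h1 := Subgroup.mem_map_of_mem σ.toMonoidHom hx
  rw [c.eq, Subgroup.map_commutator, map_eq_of_forall_mem σ _ fun y hy => c.setup.map_Rs hy] at h1
  rw [c.eq]
  exact h1

theorem isPGroup (c : Crit r p q K σ P E) : IsPGroup q E := fun e =>
  ⟨1, Subtype.ext (by rw [pow_one]; exact c.pow_eq e e.2)⟩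

theorem q_dvd_card (c : Crit r p q K σ P E) : q ∣ Nat.card E := by
  haveI := Fact.mk c.q_prime
  obtain ⟨n, hn⟩ := c.isPGroup.exists_card_eq
  rcases n with _ | n
  · exact absurd (Subgroup.card_eq_one.1 (by simpa using hn)) c.ne_bot
  · rw [hn]; exact dvd_pow_self q n.succ_ne_zero

theorem q_ne_p (c : Crit r p q K σ P E) : q ≠ p := by
  intro h
  have h1 := c.q_dvd_card.trans (Subgroup.card_dvd_of_le (c.le_Rs.trans Rs_le_Qr))
  exact c.setup.hQ (h ▸ h1)

theorem centralizer_cases (c : Crit r p q K σ P E) :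
    E ≤ Subgroup.centralizer (Rs p K : Set K) ∨
      E ⊓ Subgroup.centralizer (Rs p K : Set K) = ⊥ := by
  haveI := c.normal
  by_cases h : E ⊓ Subgroup.centralizer (Rs p K : Set K) = ⊥
  · exact Or.inr h
  refine Or.inl ((c.uniq (E ⊓ Subgroup.centralizer (Rs p K : Set K)) inferInstance
    (fun x hx => Subgroup.mem_inf.2 ⟨c.map_mem hx.1, ?_⟩)
    (inf_le_left.trans c.le_Rs) h).trans inf_le_right)
  refine Subgroup.mem_centralizer_iff.2 fun y hy => ?_
  rw [SetLike.mem_coe, ← map_eq_of_forall_mem σ _ fun y hy => c.setup.map_Rs hy] at hy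
  obtain ⟨y, hy, rfl⟩ := hy
  show σ y * σ x = σ x * σ y
  rw [← map_mul, ← map_mul, Subgroup.mem_centralizer_iff.1 hx.2 y hy]

end Crit

end Cfsg.Agent.NonDivDeg
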