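import Cfsg.Agent.Lib.NonDivDeg.Characters
import Cfsg.Agent.Lib.Coprime.Basic
import Mathlib.GroupTheory.FiniteAbelian.Duality
import Mathlib.RingTheory.RootsOfUnity.Complex

/-!
# Extending linear characters, fixed-point-free elements, degrees and abelian subgroups

* `exists_linExt` : a linear character of a subgroup trivial on the derived subgroup extends.
* `linear_eq_one_of_fixed` : an element without fixed points on `E` fixes no non-trivial linear
  character of `E`.
* `degree_le_index_of_comm` : degrees are bounded by the index of an abelian subgroup.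
* `card_mul_le_centralizer`, `card_le_centralizer_mul_commutator`, `card_sup_mul_inf`,
  `forall_comm_of_degrees` : counting lemmas.
-/

set_option autoImplicit false
set_option linter.style.haveILetI false
set_option linter.unusedSectionVars false

namespace Cfsg.Agent.NonDivDeg

open Cfsg.Agent Cfsg.Agent.Char
open scoped commutatorElement

universe u

variable {G : Type u} [Group G]

theorem exists_linExt [Finite G] (N : Subgroup G) (f : N →* ℂˣ)
    (hf : ∀ n : N, (n : G) ∈ commutator G → f n = 1) :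
    ∃ g : G →* ℂˣ, ∀ n : N, g n = f n := by
  haveI : Finite (Abelianization G) :=
    Finite.of_surjective (Abelianization.of (G := G)) QuotientGroup.mk_surjective
  let ab := (Abelianization.of (G := G)).comp N.subtype
  let f' : ab.range →* ℂˣ := (QuotientGroup.lift ab.ker f fun n hn =>
    hf n ((QuotientGroup.eq_one_iff _).1 hn)).comp (QuotientGroup.quotientKerEquivRange ab).symm.toMonoidHom
  haveI : NeZero (Monoid.exponent (Abelianization G)) := ⟨Monoid.exponent_ne_zero_of_finite⟩
  obtain ⟨g, hg⟩ := MonoidHom.domRestrict_surjective (M := ℂ) ab.range f'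
  refine ⟨g.comp Abelianization.of, fun n => ?_⟩
  have h1 : g (ab n) = f' ⟨ab n, n, rfl⟩ := DFunLike.congr_fun hg ⟨ab n, n, rfl⟩
  show g (ab n) = f n
  rw [h1, show (⟨ab n, n, rfl⟩ : ab.range) = QuotientGroup.quotientKerEquivRange ab (n : N ⧸ ab.ker)
    from rfl]
  simp only [f', MonoidHom.comp_apply, MulEquiv.coe_toMonoidHom, MulEquiv.symm_apply_apply]
  exact QuotientGroup.lift_mk ab.ker _ n

/-- An element without fixed points fixes no non-trivial linear character. -/
theorem linear_eq_one_of_fixed [Finite G] {A : Type*} [CommGroup A] (E : Subgroup G) (y : G)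
    (hy : ∀ e ∈ E, y * e * y⁻¹ ∈ E) (hfpf : ∀ e ∈ E, y * e = e * y → e = 1) (f : E →* A)
    (hf : ∀ e : E, f ⟨y * e * y⁻¹, hy e e.2⟩ = f e) : f = 1 := by
  have hinj : Function.Injective fun e : E => (e : E)⁻¹ * ⟨y * e * y⁻¹, hy e e.2⟩ := by
    intro a b hab
    have h1 : (a : G)⁻¹ * (y * a * y⁻¹) = (b : G)⁻¹ * (y * b * y⁻¹) := congrArg Subtype.val hab
    have h2 : y * ((a : G) * (b : G)⁻¹) = (a : G) * (b : G)⁻¹ * y := by
      calc y * ((a : G) * (b : G)⁻¹) = a * ((a : G)⁻¹ * (y * a * y⁻¹)) * y * (b : G)⁻¹ := by group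
        _ = (a : G) * (b : G)⁻¹ * y := by rw [h1]; group
    exact Subtype.ext (mul_inv_eq_one.1 (hfpf _ (mul_mem a.2 (inv_mem b.2)) h2))
  ext e
  obtain ⟨c, rfl⟩ := Finite.surjective_of_injective hinj e
  simp [hf c]

theorem degree_le_index_of_comm [Fintype G] (S : Subgroup G)
    (hS : ∀ a ∈ S, ∀ b ∈ S, a * b = b * a) (χ : IrrCharacter G) : degree χ ≤ S.index := by
  haveI := Fintype.ofFinite S
  obtain ⟨m, hm, hsum⟩ := exists_res_decomp S χ
  have hθ : ∃ θ, m θ ≠ 0 := by
    by_contra! h
    rw [Finset.sum_eq_zero fun θ _ => by rw [h θ, zero_mul]] at hsum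
    rw [charDegree_eq_degree] at hsum
    exact (degree_pos χ).ne hsum
  obtain ⟨θ, hθ⟩ := hθ
  have h1 := degree_le_index_mul S χ θ (by rw [hm θ]; exact Nat.cast_ne_zero.2 hθ)
  rw [charDegree_eq_degree, charDegree_eq_degree] at h1
  have h2 : degree θ = 1 := degree_eq_of_apply_one (by
    rw [Nat.cast_one]
    exact apply_one_of_comm (fun a b => Subtype.ext (hS a a.2 b b.2)) θ)
  rwa [h2, mul_one] at h1

theorem card_mul_le_centralizer [Finite G] (A B : Subgroup G) (hd : Disjoint A B) (y : G)
    (hA : ∀ a ∈ A, a * y = y * a) (hB : ∀ b ∈ B, b * y = y * b) :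
    Nat.card A * Nat.card B ≤ Nat.card (Subgroup.centralizer ({y} : Set G)) := by
  rw [← Nat.card_prod]
  refine Nat.card_le_card_of_injective (fun x : A × B =>
    (⟨(x.1 : G) * x.2, mul_mem (Subgroup.mem_centralizer_singleton_iff.2 (hA _ x.1.2))
      (Subgroup.mem_centralizer_singleton_iff.2 (hB _ x.2.2))⟩ :
      Subgroup.centralizer ({y} : Set G))) fun a b h => ?_
  exact Subgroup.mul_injective_of_disjoint hd (congrArg Subtype.val h)

theorem card_le_centralizer_mul_commutator [Finite G] (H : Subgroup G) {y : G} (hy : y ∈ H) :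
    Nat.card H ≤ Nat.card (H ⊓ Subgroup.centralizer ({y} : Set G) : Subgroup G) *
      Nat.card (⁅H, H⁆ : Subgroup G) := by
  have h1 := index_commutator_le_card_centralizer (⟨y, hy⟩ : H)
  have h2 : Nat.card (Subgroup.centralizer ({(⟨y, hy⟩ : H)} : Set H)) ≤
      Nat.card (H ⊓ Subgroup.centralizer ({y} : Set G) : Subgroup G) := by
    refine Nat.card_le_card_of_injective (fun x => ⟨((x : H) : G), (x : H).2,
      Subgroup.mem_centralizer_singleton_iff.2
        (congrArg Subtype.val (Subgroup.mem_centralizer_singleton_iff.1 x.2))⟩) fun a b h => ?_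
    exact Subtype.ext (Subtype.ext (congrArg (fun x : (H ⊓ Subgroup.centralizer ({y} : Set G) : Subgroup G) => (x : G)) h))
  have h3 : Nat.card (⁅H, H⁆ : Subgroup G) = Nat.card (commutator H) := by
    rw [← Subgroup.map_subtype_commutator,
      Nat.card_congr ((commutator H).equivMapOfInjective _ H.subtype_injective).toEquiv]
  calc Nat.card H = (commutator H).index * Nat.card (commutator H) := by
        rw [mul_comm, Subgroup.card_mul_index]
    _ ≤ _ := by rw [h3]; exact Nat.mul_le_mul_right _ (h1.trans h2)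

theorem card_sup_mul_inf (N H : Subgroup G) [N.Normal] :
    Nat.card ↥(N ⊔ H) * Nat.card ↥(N ⊓ H) = Nat.card N * Nat.card H := by
  have h1 : Nat.card (N.subgroupOf (N ⊔ H)) * (N.subgroupOf (N ⊔ H)).index = Nat.card ↥(N ⊔ H) :=
    Subgroup.card_mul_index _
  have h2 : Nat.card ((N ⊓ H).subgroupOf H) * ((N ⊓ H).subgroupOf H).index = Nat.card H :=
    Subgroup.card_mul_index _
  have h3 : (N.subgroupOf (N ⊔ H)).index = ((N ⊓ H).subgroupOf H).index := by
    show N.relIndex (N ⊔ H) = (N ⊓ H).relIndex H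
    rw [Subgroup.inf_relIndex_right, Subgroup.relIndex_sup_left]
  rw [Nat.card_congr (Subgroup.subgroupOfEquivOfLe (le_sup_left : N ≤ N ⊔ H)).toEquiv] at h1
  rw [Nat.card_congr (Subgroup.subgroupOfEquivOfLe (inf_le_right : N ⊓ H ≤ H)).toEquiv] at h2
  rw [← h1, ← h2, h3]
  ring

/-- All irreducible characters linear: commutative. -/
theorem forall_comm_of_degrees [Finite G] (S : Subgroup G)
    (h : ∀ β : IrrCharacter S, degree β = 1) : ∀ a ∈ S, ∀ b ∈ S, a * b = b * a := by
  intro a ha b hb
  have h1 := forall_apply_one_iff_comm.1 (fun χ => by rw [apply_one_eq_degree, h χ, Nat.cast_one])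
    (⟨a, ha⟩ : S) ⟨b, hb⟩
  exact congrArg Subtype.val h1

end Cfsg.Agent.NonDivDeg
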