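import Cfsg.Agent.Lib.NonDivDeg.Noncentral
import Cfsg.Agent.Lib.NonDivDeg.Central
import Cfsg.Agent.Lib.ThreeDegrees.Induction
import Cfsg.Prelude.Def_DegreeGraph
import Mathlib.Combinatorics.SimpleGraph.Connectivity.Connected

/-!
# Solvable groups without divisibility among non-linear degrees and a disconnected degree graph

* `degree_eq_of_hyp` : under `Hyp` all non-linear degrees of `K` are equal.
* `card_charDegrees_eq_three` : no divisibility among the non-linear degrees and two components of the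
  degree graph give exactly three degrees.
-/

set_option autoImplicit false
set_option linter.style.haveILetI false
set_option linter.unusedSectionVars false

namespace Cfsg.Agent.NonDivDeg

open Cfsg.Agent Cfsg.Agent.Char
open scoped commutatorElement

universe u

theorem Rs_abelian {r p : ℕ} [Fact p.Prime] : ∀ (c : ℕ) (K : Type u) [Group K] [Fintype K]
    [Group.IsSolvable K], Nat.card K = c → ∀ σ : MulAut K, Hyp r p K σ →
      ⁅Rs p K, Rs p K⁆ = ⊥ := by
  intro c
  induction c using Nat.strong_induction_on with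
  | _ c ih =>
    intro K _ _ _ hc σ h
    by_contra hne
    obtain ⟨τ, P, hS⟩ := exists_setup h
    obtain ⟨q, E, hcrit⟩ := exists_crit hS
      (fun L _ _ _ hlt τ' hτ' => ih _ (hc ▸ hlt) L rfl τ' hτ') hne
    rcases hcrit.centralizer_cases with h1 | h1
    · exact hcrit.false_of_central h1
    · exact hcrit.false_of_noncentral h1

theorem degree_eq_of_hyp {r p : ℕ} [Fact p.Prime] {K : Type u} [Group K] [Fintype K]
    [Group.IsSolvable K] {σ : MulAut K} (h : Hyp r p K σ) (ψ φ : IrrCharacter K)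
    (hψ : degree ψ ≠ 1) (hφ : degree φ ≠ 1) : degree ψ = degree φ := by
  obtain ⟨τ, P, hS⟩ := exists_setup h
  exact hS.degree_eq_of_abelian (Rs_abelian _ K rfl σ h) ψ φ hψ hφ

/-- The main theorem. -/
theorem card_charDegrees_eq_three (G : Type u) [Group G] [Finite G] [Group.IsSolvable G]
    (hnd : ∀ a ∈ Cfsg.charDegrees G, ∀ b ∈ Cfsg.charDegrees G, 1 < a → a < b → ¬ a ∣ b)
    (htwo : Nat.card ((Cfsg.degreeGraph G).induce (Cfsg.degreePrimes G)).ConnectedComponent = 2) :
    Nat.card ↥(Cfsg.charDegrees G) = 3 := by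
  classical
  haveI := Fintype.ofFinite G
  have hmem : ∀ χ : IrrCharacter G, degree χ ∈ Cfsg.charDegrees G := fun χ =>
    ⟨χ, charDegree_eq_degree χ⟩
  have hnd' : ∀ χ η : IrrCharacter G, degree χ ≠ 1 → degree χ ∣ degree η → degree χ = degree η := by
    intro χ η h1 hd
    have hpos := degree_pos χ
    rcases (Nat.le_of_dvd (degree_pos η) hd).lt_or_eq with h | h
    · exact absurd hd (hnd _ (hmem χ) _ (hmem η) (by omega) h)
    · exact h
  -- no prime is joined to all others
  have hhub : ∀ a : ℕ, a.Prime → (∃ χ : IrrCharacter G, a ∣ degree χ) →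
      (∀ t : ℕ, t.Prime → ∀ χ : IrrCharacter G, t ∣ degree χ → ∃ η : IrrCharacter G,
        ∃ s : ℕ, s.Prime ∧ t ∣ degree η ∧ s ∣ degree η ∧
          ∃ η' : IrrCharacter G, s ∣ degree η' ∧ a ∣ degree η') → False := by
    intro a ha hexa hall
    have hV : ∀ {t : ℕ}, t.Prime → ∀ {χ : IrrCharacter G}, t ∣ degree χ →
        t ∈ Cfsg.degreePrimes G := fun {t} ht {χ} h => ⟨ht, _, hmem χ, h⟩
    have hstep : ∀ {s t : ℕ} (hs : s.Prime) (ht : t.Prime) {χ : IrrCharacter G}
        (h1 : s ∣ degree χ) (h2 : t ∣ degree χ),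
        ((Cfsg.degreeGraph G).induce (Cfsg.degreePrimes G)).Reachable
          ⟨s, hV hs h1⟩ ⟨t, hV ht h2⟩ := by
      intro s t hs ht χ h1 h2
      by_cases hst : s = t
      · subst hst; exact SimpleGraph.Reachable.refl _
      · exact SimpleGraph.Adj.reachable (show (Cfsg.degreeGraph G).Adj s t from
          ⟨hst, hs, ht, _, hmem χ, ((Nat.coprime_primes hs ht).2 hst).mul_dvd_of_dvd_of_dvd h1 h2⟩)
    obtain ⟨χa, hχa⟩ := hexa
    have hreach : ∀ b : ↥(Cfsg.degreePrimes G),
        ((Cfsg.degreeGraph G).induce (Cfsg.degreePrimes G)).Reachable b ⟨a, hV ha hχa⟩ := by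
      rintro ⟨t, ht, d, ⟨χ, hχ⟩, htd⟩
      rw [← hχ, charDegree_eq_degree] at htd
      obtain ⟨η, s, hs, h1, h2, η', h3, h4⟩ := hall t ht χ htd
      exact (hstep ht hs h1 h2).trans (hstep hs ha h3 h4)
    haveI : Subsingleton
        ((Cfsg.degreeGraph G).induce (Cfsg.degreePrimes G)).ConnectedComponent := by
      refine ⟨fun x y => ?_⟩
      induction x using SimpleGraph.ConnectedComponent.ind with | _ x => ?_
      induction y using SimpleGraph.ConnectedComponent.ind with | _ y => ?_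
      exact SimpleGraph.ConnectedComponent.eq.2 ((hreach x).trans (hreach y).symm)
    have := Finite.card_le_one_iff_subsingleton.2
      (inferInstance : Subsingleton
        ((Cfsg.degreeGraph G).induce (Cfsg.degreePrimes G)).ConnectedComponent)
    omega
  -- `G` is not abelian
  have hG1 : commutator G ≠ ⊥ := by
    intro hbot
    haveI : IsEmpty ↥(Cfsg.degreePrimes G) := ⟨fun ⟨t, ht, d, ⟨χ, hχ⟩, htd⟩ => by
      rw [← hχ, charDegree_eq_degree] at htd
      have h1 : degree χ = 1 := degree_eq_of_apply_one (by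
        rw [Nat.cast_one]
        refine apply_one_of_comm (fun a b => ?_) χ
        rw [← commutatorElement_eq_one_iff_mul_comm, ← Subgroup.mem_bot, ← hbot]
        exact Subgroup.commutator_mem_commutator (Subgroup.mem_top a) (Subgroup.mem_top b))
      rw [h1, Nat.dvd_one] at htd
      exact ht.ne_one htd⟩
    haveI : IsEmpty ((Cfsg.degreeGraph G).induce (Cfsg.degreePrimes G)).ConnectedComponent :=
      ⟨fun c => c.ind isEmptyElim⟩
    rw [Nat.card_of_isEmpty] at htwo
    omega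
  have hperf : ¬ commutator G ≤ ⁅commutator G, commutator G⁆ := fun hle =>
    (Group.IsSolvable.commutator_lt_of_ne_bot hG1).not_ge hle
  -- a maximal non-abelian quotient
  haveI : Finite (Subgroup G) := Finite.of_injective (fun K : Subgroup G => (K : Set G))
    SetLike.coe_injective
  haveI := Fintype.ofFinite (Subgroup G)
  obtain ⟨N, hN₀⟩ := Finset.exists_maximal (s := Finset.univ.filter fun N : Subgroup G =>
      N.Normal ∧ ⁅commutator G, commutator G⁆ ≤ N ∧ ¬ commutator G ≤ N)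
    ⟨⁅commutator G, commutator G⁆, Finset.mem_filter.2 ⟨Finset.mem_univ _, inferInstance, le_rfl,
      hperf⟩⟩
  have hNmax : Maximal (fun N : Subgroup G =>
      N.Normal ∧ ⁅commutator G, commutator G⁆ ≤ N ∧ ¬ commutator G ≤ N) N :=
    ⟨(Finset.mem_filter.1 hN₀.prop).2,
      fun M hM hle => hN₀.2 (Finset.mem_filter.2 ⟨Finset.mem_univ _, hM⟩) hle⟩
  obtain ⟨hNn, hN2, hN1⟩ := hNmax.prop
  haveI := hNn
  haveI := Fintype.ofFinite N
  set π := QuotientGroup.mk' N with hπ
  have hπs : Function.Surjective π := QuotientGroup.mk'_surjective N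
  have hπD : (commutator G).map π = commutator (G ⧸ N) := by
    rw [commutator_def, commutator_def, Subgroup.map_commutator,
      Subgroup.map_top_of_surjective _ hπs]
  have hB0 : ⁅commutator (G ⧸ N), commutator (G ⧸ N)⁆ = ⊥ := by
    rw [← hπD, ← Subgroup.map_commutator, Subgroup.map_eq_bot_iff, hπ, QuotientGroup.ker_mk']
    exact hN2
  have hmin : ∀ M : Subgroup (G ⧸ N), M.Normal → M ≠ ⊥ → commutator (G ⧸ N) ≤ M := by
    intro M hM hMne
    haveI := hM.comap π
    have hle : N ≤ M.comap π := fun x hx => by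
      rw [Subgroup.mem_comap, hπ, QuotientGroup.mk'_apply, (QuotientGroup.eq_one_iff x).2 hx]
      exact M.one_mem
    rw [← hπD, Subgroup.map_le_iff_le_comap]
    by_contra hcon
    have heq := hNmax.eq_of_ge ⟨inferInstance, hN2.trans hle, hcon⟩ hle
    refine hMne ?_
    rw [← Subgroup.map_comap_eq_self_of_surjective hπs M]
    rw [Subgroup.map_eq_bot_iff, hπ, QuotientGroup.ker_mk']
    exact heq.le
  have hBne : commutator (G ⧸ N) ≠ ⊥ := by
    rw [← hπD, Ne, Subgroup.map_eq_bot_iff, hπ, QuotientGroup.ker_mk']; exact hN1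
  rcases ThreeDegrees.structure_of_minimal hBne hB0 hmin with ⟨p, hp, hQp⟩ | ⟨hfpf, hcoQ⟩
  · -- a `p`-group quotient: every non-linear degree is divisible by `p`
    exfalso
    haveI := Fact.mk hp
    haveI := Fintype.ofFinite (G ⧸ N)
    obtain ⟨e, he⟩ := IsPGroup.iff_card.1 hQp
    obtain ⟨β, hβ⟩ : ∃ β : IrrCharacter (G ⧸ N), degree β ≠ 1 := by
      by_contra! h
      exact hN1 (ThreeDegrees.commutator_le_of_linear N h)
    have hβd : degree β ∣ p ^ e := by
      rw [← he, ← charDegree_eq_degree]; exact charDegree_dvd_card β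
    obtain ⟨i, -, hi⟩ := (Nat.dvd_prime_pow hp).1 hβd
    have hpb : p ∣ degree β := by
      rw [hi]; exact dvd_pow_self p fun h0 => hβ (by rw [hi, h0, pow_zero])
    have hall : ∀ χ : IrrCharacter G, degree χ ≠ 1 → p ∣ degree χ := by
      intro χ hχ
      by_contra hp'
      have hco : (degree χ).Coprime N.index := by
        rw [Subgroup.index_eq_card, he]
        exact ((hp.coprime_iff_not_dvd.2 hp').pow_left e).symm
      let χβ : IrrCharacter G :=
        ⟨_, isIrrCharacter_mulQuotient N χ (ThreeDegrees.isIrr_resFun_of_coprime N χ hco) β⟩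
      have hd : degree χβ = degree χ * degree β := degree_eq_of_apply_one (by
        show χ.1 1 * β.1 ((1 : G) : G ⧸ N) = _
        rw [QuotientGroup.mk_one, apply_one_eq_degree, apply_one_eq_degree, Nat.cast_mul])
      have h1 := hnd' χ χβ hχ (hd ▸ dvd_mul_right _ _)
      rw [hd] at h1
      exact hβ ((Nat.mul_eq_left (degree_pos χ).ne').1 h1.symm)
    have hβG : p ∣ degree (inflate N β) := by rw [ThreeDegrees.degree_inflate]; exact hpb
    exact hhub p hp ⟨_, hβG⟩ fun t ht χ htχ =>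
      ⟨χ, p, hp, htχ, hall χ (fun h1 => ht.ne_one (Nat.dvd_one.1 (h1 ▸ htχ))), _, hβG, hβG⟩
  -- a Frobenius quotient
  set B := commutator (G ⧸ N) with hBdef
  set K := B.comap π with hK
  haveI := Fintype.ofFinite K
  haveI := Fintype.ofFinite (N.subgroupOf K)
  have hNK : N ≤ K := fun x hx => by
    rw [hK, Subgroup.mem_comap, hπ, QuotientGroup.mk'_apply, (QuotientGroup.eq_one_iff x).2 hx]
    exact one_mem _
  have hGK : commutator G ≤ K := by
    rw [hK, ← Subgroup.map_le_iff_le_comap, hπD]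
  have hmemN : ∀ x : G, π x = 1 → x ∈ N := fun x h => (QuotientGroup.eq_one_iff x).1 h
  have hKab : ∀ a ∈ K, ∀ b ∈ K, ⁅a, b⁆ ∈ N := fun a ha b hb => hmemN _ (by
    have h3 : π ⁅a, b⁆ ∈ ⁅B, B⁆ := by
      rw [map_commutatorElement]; exact Subgroup.commutator_mem_commutator ha hb
    rw [hB0, Subgroup.mem_bot] at h3
    exact h3)
  have hKfpf : ∀ g : G, g ∉ K → ∀ k ∈ K, ⁅g, k⁆ ∈ N → k ∈ N := fun g hg k hk h => by
    refine hmemN _ (hfpf (π g) hg (π k) hk ?_)
    rw [← commutatorElement_eq_one_iff_mul_comm, ← map_commutatorElement]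
    exact (QuotientGroup.eq_one_iff _).2 h
  have hKN : ¬ K ≤ N := fun h => hN1 (hGK.trans h)
  have hindex : K.index = B.index := Subgroup.index_comap_of_surjective _ hπs
  have hrel : (N.subgroupOf K).index = Nat.card B := by
    show N.relIndex K = _
    rw [PCore.relIndex_eq_card_map_mk', ← hπ, hK,
      Subgroup.map_comap_eq_self_of_surjective hπs]
  -- `B` is an elementary abelian `p`-group
  obtain ⟨p, hp, hpB⟩ := Nat.exists_prime_and_dvd
    (fun h1 => hBne (Subgroup.card_eq_one.1 h1) : Nat.card B ≠ 1)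
  haveI := Fact.mk hp
  have hBab : ∀ a ∈ B, ∀ b ∈ B, a * b = b * a := fun a ha b hb => by
    rw [← commutatorElement_eq_one_iff_mul_comm, ← Subgroup.mem_bot, ← hB0]
    exact Subgroup.commutator_mem_commutator ha hb
  have hexp : ∀ x ∈ B, x ^ p = 1 := by
    let M : Subgroup (G ⧸ N) :=
      { carrier := {x | x ∈ B ∧ x ^ p = 1}
        one_mem' := ⟨B.one_mem, one_pow p⟩
        mul_mem' := fun {a b} ha hb => ⟨B.mul_mem ha.1 hb.1,
          by rw [Commute.mul_pow (hBab a ha.1 b hb.1), ha.2, hb.2, one_mul]⟩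
        inv_mem' := fun {a} ha => ⟨B.inv_mem ha.1, by rw [inv_pow, ha.2, inv_one]⟩ }
    have hBn : B.Normal := by rw [hBdef]; infer_instance
    have hMne : M ≠ ⊥ := by
      obtain ⟨e, he⟩ := exists_prime_orderOf_dvd_card' p hpB
      intro hM
      have h1 : (e : G ⧸ N) ∈ M :=
        ⟨e.2, by rw [← SubgroupClass.coe_pow, ← he, pow_orderOf_eq_one]; rfl⟩
      rw [hM, Subgroup.mem_bot] at h1
      rw [show e = 1 from Subtype.ext h1, orderOf_one] at he
      exact hp.one_lt.ne he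
    exact fun x hx => (hmin M ⟨fun y hy g => ⟨hBn.conj_mem y hy.1 g,
      by rw [conj_pow, hy.2, mul_one, mul_inv_cancel]⟩⟩ hMne hx).2
  obtain ⟨e, he⟩ := (show IsPGroup p B from fun x =>
    ⟨1, Subtype.ext (by rw [pow_one]; exact hexp x x.2)⟩).exists_card_eq
  have hpf : ¬ p ∣ K.index := fun hd =>
    hp.not_dvd_one (by
      have := Nat.dvd_gcd hpB (hindex ▸ hd)
      rwa [hcoQ] at this)
  have hf1 : K.index ≠ 1 := fun h => by
    have htop : B = ⊤ := Subgroup.index_eq_one.1 (hindex ▸ h)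
    refine hBne ?_
    have h1 : B = ⁅B, B⁆ := by
      conv_lhs => rw [hBdef, commutator_def, ← htop]
    rw [h1, hB0]
  set f := K.index with hfdef
  obtain ⟨χf, hχf⟩ : ∃ χ : IrrCharacter G, degree χ = f := by
    have htriv : degree (trivialChar K) = 1 :=
      degree_eq_of_apply_one (by simp [trivialChar])
    obtain ⟨χ, hχ⟩ := ThreeDegrees.exists_degree_index_mul K N hNK hKab hKfpf hKN (trivialChar K)
      (trivialChar (N.subgroupOf K)).2
    rw [htriv, mul_one] at hχ
    exact ⟨χ, hχ⟩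
  have hpψ : ∀ ψ : IrrCharacter K, degree ψ ≠ 1 → p ∣ degree ψ := by
    intro ψ hψ
    by_contra hp'
    have hco : (degree ψ).Coprime (N.subgroupOf K).index := by
      rw [hrel, he]; exact ((hp.coprime_iff_not_dvd.2 hp').pow_left e).symm
    obtain ⟨χ, hχ⟩ := ThreeDegrees.exists_degree_index_mul K N hNK hKab hKfpf hKN ψ
      (ThreeDegrees.isIrr_resFun_of_coprime (N.subgroupOf K) ψ hco)
    have h1 := hnd' χf χ (hχf ▸ hf1) (by rw [hχf, hχ]; exact dvd_mul_right _ _)
    rw [hχf, hχ] at h1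
    exact hψ ((Nat.mul_eq_left (Subgroup.index_ne_zero_of_finite)).1 h1.symm)
  have hclass : ∀ χ : IrrCharacter G, degree χ ≠ 1 → degree χ ≠ f → p ∣ degree χ := by
    intro χ h1 h2
    obtain ⟨ψ, hψ⟩ := exists_constituent K χ
    obtain ⟨hd, hi⟩ := ThreeDegrees.constituent_dvd K χ ψ hψ
    by_cases hψ1 : degree ψ = 1
    · rw [hψ1, Nat.div_one] at hi
      exact absurd ((hnd' χ χf h1 (hχf ▸ hi)).trans hχf) h2
    · exact (hpψ ψ hψ1).trans hd
  obtain ⟨s₀, hs₀, hs₀f⟩ := Nat.exists_prime_and_dvd hf1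
  have hcop : ∀ χ : IrrCharacter G, degree χ ≠ 1 → degree χ ≠ f → (degree χ).Coprime f := by
    intro χ h1 h2
    by_contra hcon
    obtain ⟨s, hs, hsχ, hsf⟩ := Nat.Prime.not_coprime_iff_dvd.1 hcon
    refine hhub s hs ⟨χ, hsχ⟩ fun t ht η htη => ?_
    by_cases hη : degree η = f
    · exact ⟨η, s, hs, htη, hη ▸ hsf, χ, hsχ, hsχ⟩
    · exact ⟨η, p, hp, htη, hclass η (fun h => ht.ne_one (Nat.dvd_one.1 (h ▸ htη))) hη,
        χ, hclass χ h1 h2, hsχ⟩
  obtain ⟨χm, hm1, hmf⟩ : ∃ χ : IrrCharacter G, degree χ ≠ 1 ∧ degree χ ≠ f := by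
    by_contra! hall
    refine hhub s₀ hs₀ ⟨χf, hχf ▸ hs₀f⟩ fun t ht η htη => ?_
    have hη : degree η = f := hall η fun h => ht.ne_one (Nat.dvd_one.1 (h ▸ htη))
    exact ⟨η, s₀, hs₀, htη, hη ▸ hs₀f, η, hη ▸ hs₀f, hη ▸ hs₀f⟩
  -- non-linear characters of `K` are restrictions
  have hres : ∀ ψ : IrrCharacter K, degree ψ ≠ 1 → ∃ χ : IrrCharacter G,
      degree χ = degree ψ ∧ degree χ ≠ f ∧ resFun K χ.1 = ψ.1 := by
    intro ψ hψ
    obtain ⟨χ, hχ⟩ := ThreeDegrees.exists_over K ψ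
    obtain ⟨hd, hi⟩ := ThreeDegrees.constituent_dvd K χ ψ hχ
    have h1 : degree χ ≠ 1 := fun h => hψ (Nat.dvd_one.1 (h ▸ hd))
    have h2 : degree χ ≠ f := fun h => hpf (h ▸ (hpψ ψ hψ).trans hd)
    have h3 : degree χ / degree ψ = 1 :=
      Nat.eq_one_of_dvd_coprimes (hcop χ h1 h2) (Nat.div_dvd_of_dvd hd) hi
    have heq : degree ψ = degree χ := by rw [← Nat.div_mul_cancel hd, h3, one_mul]
    exact ⟨χ, heq.symm, h2, ThreeDegrees.resFun_eq_of_degree_eq K χ ψ hχ heq⟩
  -- an automorphism of order `r` modulo inner ones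
  obtain ⟨r, hr, hrf⟩ := Nat.exists_prime_and_dvd hf1
  haveI := Fact.mk hr
  obtain ⟨gK, hgK⟩ := exists_prime_orderOf_dvd_card' r
    (show r ∣ Nat.card (G ⧸ K) by rwa [← Subgroup.index_eq_card])
  obtain ⟨g, rfl⟩ := QuotientGroup.mk_surjective gK
  have hgnot : g ∉ K := fun h => by
    rw [(QuotientGroup.eq_one_iff g).2 h, orderOf_one] at hgK
    exact hr.one_lt.ne hgK
  have hgr : g ^ r ∈ K := (QuotientGroup.eq_one_iff _).1 (by
    rw [QuotientGroup.mk_pow, ← hgK, pow_orderOf_eq_one])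
  have hH : Hyp r p K (MulAut.conjNormal g) := by
    refine ⟨hr, hp, fun h => hpf (h ▸ hrf), ⟨⟨g ^ r, hgr⟩, ?_⟩, hpψ, fun ψ hd => ?_,
      fun ψ φ h1 h2 h3 => ?_, fun ψ hψ k => ?_, ?_⟩
    · refine MulEquiv.ext fun k => Subtype.ext ?_
      rw [← map_pow, MulAut.conjNormal_apply]
      rfl
    · by_cases hψ : degree ψ = 1
      · rw [hψ, Nat.dvd_one] at hd; exact hr.ne_one hd
      obtain ⟨χ, hχ, hχf', -⟩ := hres ψ hψ
      exact hr.not_dvd_one (Nat.dvd_gcd (hχ ▸ hd) hrf |>.trans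
        (hcop χ (hχ ▸ hψ) hχf').dvd)
    · obtain ⟨χ, hχ, -, -⟩ := hres ψ h1
      obtain ⟨η, hη, -, -⟩ := hres φ h2
      rw [← hχ, ← hη] at h3 ⊢
      exact hnd' χ η (hχ ▸ h1) h3
    · obtain ⟨χ, -, -, hχ⟩ := hres ψ hψ
      rw [← hχ, resFun_apply, resFun_apply, MulAut.conjNormal_apply,
        IsCharacter.isClassFunction (irr_isCharacter χ)]
    · obtain ⟨y, hyK, hyN⟩ := SetLike.not_le_iff_exists.1 hKN
      obtain ⟨i, o, ho, hoy⟩ := Nat.exists_eq_pow_mul_and_not_dvd
        (orderOf_pos y).ne' p hp.ne_one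
      refine ⟨⟨y ^ o, K.pow_mem hyK o⟩, ⟨i, Subtype.ext (by
        show (y ^ o) ^ p ^ i = 1
        rw [← pow_mul, mul_comm, ← hoy, pow_orderOf_eq_one])⟩, fun hc => hyN ?_⟩
      have h1 : ⁅g, y ^ o⁆ ∈ N := by
        have h2 : g * y ^ o * g⁻¹ * (y ^ o)⁻¹ ∈ ⁅K, K⁆ := by
          rw [← Subgroup.map_subtype_commutator]
          exact ⟨_, hc, by simp⟩
        exact (Subgroup.commutator_le.2 hKab) h2
      have h3 : π (y ^ o) = 1 := (QuotientGroup.eq_one_iff _).2
        (hKfpf g hgnot _ (K.pow_mem hyK o) h1)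
      refine hmemN y (orderOf_eq_one_iff.1 (Nat.eq_one_of_dvd_coprimes
        ((hp.coprime_iff_not_dvd).2 ho) (orderOf_dvd_of_pow_eq_one (hexp _ hyK))
        (orderOf_dvd_of_pow_eq_one (by rw [← map_pow]; exact h3))))
  haveI : Group.IsSolvable K := inferInstance
  -- all the other degrees are equal
  have hkey : ∀ χ : IrrCharacter G, degree χ ≠ 1 → degree χ ≠ f → degree χ = degree χm := by
    have hrestr : ∀ χ : IrrCharacter G, degree χ ≠ 1 → degree χ ≠ f →
        ∃ ψ : IrrCharacter K, degree ψ = degree χ := fun χ h1 h2 =>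
      ⟨⟨_, ThreeDegrees.isIrr_resFun_of_coprime K χ (hcop χ h1 h2)⟩, degree_eq_of_apply_one (by
        show resFun K χ.1 1 = _
        rw [resFun_apply, Subgroup.coe_one, apply_one_eq_degree])⟩
    intro χ h1 h2
    obtain ⟨ψ, hψ⟩ := hrestr χ h1 h2
    obtain ⟨φ, hφ⟩ := hrestr χm hm1 hmf
    rw [← hψ, ← hφ]
    exact degree_eq_of_hyp hH ψ φ (hψ ▸ h1) (hφ ▸ hm1)
  have hset : Cfsg.charDegrees G = {1, f, degree χm} := by
    ext d
    simp only [Set.mem_insert_iff, Set.mem_singleton_iff]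
    constructor
    · rintro ⟨χ, rfl⟩
      rw [charDegree_eq_degree]
      by_cases h1 : degree χ = 1
      · exact Or.inl h1
      by_cases h2 : degree χ = f
      · exact Or.inr (Or.inl h2)
      exact Or.inr (Or.inr (hkey χ h1 h2))
    · rintro (rfl | rfl | rfl)
      · rw [← show degree (trivialChar G) = 1 from degree_eq_of_apply_one (by simp [trivialChar])]
        exact hmem _
      · exact hχf ▸ hmem χf
      · exact hmem χm
  rw [Nat.card_coe_set_eq, hset,
    Set.ncard_insert_of_notMem (by simp [Ne.symm hf1, Ne.symm hm1]), Set.ncard_pair (Ne.symm hmf)]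

end Cfsg.Agent.NonDivDeg
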