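import Cfsg.Agent.Lib.NonDivDeg.Critical
import Mathlib.GroupTheory.SchurZassenhaus

/-!
# The critical case `C_E(R) = 1`

Then `E` is the Sylow `q`-subgroup of `R`, with abelian complement `Y`, and `M = N_K(Y)` complements
`E` in `K`. If `H` is abelian an element of order `p` of `M` acts fixed-point-freely on `E Y`, which is
impossible; otherwise the degrees over a linear character of `E` are proper multiples of a degree.
-/

set_option autoImplicit false
set_option linter.style.haveILetI false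
set_option linter.unusedSectionVars false

namespace Cfsg.Agent.NonDivDeg

open Cfsg.Agent Cfsg.Agent.Char Cfsg.Agent.RelDeg
open scoped commutatorElement Pointwise

universe u

variable {K : Type u} [Group K] [Fintype K] {r p q : ℕ} [Fact p.Prime] {σ : MulAut K}
  {P : Sylow p K} {E : Subgroup K}

namespace Crit

/-- The Sylow `q`-subgroup `E` of `R` has an abelian complement `Y` in `R` without fixed points on
`E`. -/
theorem exists_complement (c : Crit r p q K σ P E)
    (hE : E ⊓ Subgroup.centralizer (Rs p K : Set K) = ⊥) :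
    ∃ Y : Subgroup K, Y ≤ Rs p K ∧ (Nat.card Y).Coprime (Nat.card E) ∧ E ⊔ Y = Rs p K ∧
      (∀ a ∈ Y, ∀ b ∈ Y, a * b = b * a) ∧ (∀ e ∈ E, (∀ y ∈ Y, y * e = e * y) → e = 1) := by
  haveI := c.normal
  haveI := Fact.mk c.q_prime
  have hcR : ∀ a ∈ Rs p K, ∀ b ∈ Rs p K, ⁅a, b⁆ ∈ E := fun a ha b hb => by
    rw [c.eq]; exact Subgroup.commutator_mem_commutator ha hb
  have hq1 : ∀ (x : K) (i : ℕ), x ^ q ^ i ∈ E → x ^ q ^ (i + 1) = 1 := fun x i hx => by
    rw [pow_succ, pow_mul]; exact c.pow_eq _ hx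
  have hpe : ∀ (x : K) (i j : ℕ), x ^ q ^ i = 1 → x ^ q ^ (i + j) = 1 := fun x i j hx => by
    rw [pow_add, pow_mul, hx, one_pow]
  -- the `q`-elements of `R`
  let T : Subgroup K :=
    { carrier := {x | x ∈ Rs p K ∧ ∃ i, x ^ q ^ i = 1}
      one_mem' := ⟨(Rs p K).one_mem, 0, one_pow _⟩
      mul_mem' := fun {a b} ha hb => ⟨(Rs p K).mul_mem ha.1 hb.1, by
        obtain ⟨i, hi⟩ := ha.2
        obtain ⟨j, hj⟩ := hb.2
        refine ⟨i + j + 1, hq1 _ _ ?_⟩
        rw [← QuotientGroup.eq_one_iff, QuotientGroup.mk_pow, QuotientGroup.mk_mul]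
        have hab : Commute (a : K ⧸ E) (b : K ⧸ E) := by
          refine commutatorElement_eq_one_iff_commute.1 ?_
          show ⁅QuotientGroup.mk' E a, QuotientGroup.mk' E b⁆ = 1
          rw [← map_commutatorElement]
          exact (QuotientGroup.eq_one_iff _).2 (hcR a ha.1 b hb.1)
        rw [hab.mul_pow, ← QuotientGroup.mk_pow, ← QuotientGroup.mk_pow, hpe a i j hi,
          Nat.add_comm i j, hpe b j i hj, QuotientGroup.mk_one, one_mul]⟩
      inv_mem' := fun {a} ha => ⟨(Rs p K).inv_mem ha.1, by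
        obtain ⟨i, hi⟩ := ha.2
        exact ⟨i, by rw [inv_pow, hi, inv_one]⟩⟩ }
  have hTR : T ≤ Rs p K := fun x hx => hx.1
  have hET : E ≤ T := fun e he => ⟨c.le_Rs he, 1, by rw [pow_one]; exact c.pow_eq e he⟩
  have hTn : T.Normal := ⟨fun x hx g => ⟨Subgroup.Normal.conj_mem inferInstance x hx.1 g, by
    obtain ⟨i, hi⟩ := hx.2
    exact ⟨i, by rw [conj_pow, hi, mul_one, mul_inv_cancel]⟩⟩⟩
  have hTq : IsPGroup q T := fun x => by
    obtain ⟨i, hi⟩ := x.2.2
    exact ⟨i, Subtype.ext hi⟩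
  -- `T` centralises `E`
  have hTE : E ≤ Subgroup.centralizer (T : Set K) := by
    have hne : E ⊓ Subgroup.centralizer (T : Set K) ≠ ⊥ := by
      letI : MulAction T E :=
        MulAction.compHom E ((MulAut.conjNormal (H := E)).comp T.subtype)
      have hmem1 : (1 : E) ∈ MulAction.fixedPoints T E := fun z => map_one (MulAut.conjNormal (z : K))
      obtain ⟨b, hb, hb1⟩ :=
        hTq.exists_fixed_point_of_prime_dvd_card_of_fixed_point E c.q_dvd_card hmem1
      intro hbot
      refine hb1 (Subtype.ext (Subgroup.mem_bot.1 (hbot ▸ Subgroup.mem_inf.2 ⟨b.2, ?_⟩))).symm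
      refine Subgroup.mem_centralizer_iff.2 fun t ht => ?_
      have h7 := congrArg Subtype.val (hb ⟨t, ht⟩)
      change t * (b : K) * t⁻¹ = b at h7
      exact mul_inv_eq_iff_eq_mul.1 h7
    refine (c.uniq (E ⊓ Subgroup.centralizer (T : Set K)) inferInstance (fun x hx => ?_)
      (inf_le_left.trans c.le_Rs) hne).trans inf_le_right
    refine Subgroup.mem_inf.2 ⟨c.map_mem hx.1, Subgroup.mem_centralizer_iff.2 fun y hy => ?_⟩
    have hTσ : ∀ y ∈ T, σ y ∈ T := fun y hy => ⟨c.setup.map_Rs hy.1, by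
      obtain ⟨i, hi⟩ := hy.2
      exact ⟨i, by rw [← map_pow, hi, map_one]⟩⟩
    rw [SetLike.mem_coe, ← map_eq_of_forall_mem σ T hTσ] at hy
    obtain ⟨y, hy, rfl⟩ := hy
    show σ y * σ x = σ x * σ y
    rw [← map_mul, ← map_mul, Subgroup.mem_centralizer_iff.1 hx.2 y hy]
  -- the complement
  have hidx : ¬ q ∣ T.relIndex (Rs p K) := by
    intro hd
    haveI : (T.subgroupOf (Rs p K)).Normal := Subgroup.normal_subgroupOf
    obtain ⟨y, hy⟩ := exists_prime_orderOf_dvd_card' q
      (show q ∣ Nat.card (Rs p K ⧸ T.subgroupOf (Rs p K)) by rwa [← Subgroup.index_eq_card])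
    obtain ⟨g, rfl⟩ := QuotientGroup.mk_surjective y
    have h1 : (g : K) ^ q ∈ T := by
      have : g ^ q ∈ T.subgroupOf (Rs p K) := (QuotientGroup.eq_one_iff _).1 (by
        rw [QuotientGroup.mk_pow, ← hy, pow_orderOf_eq_one])
      simpa [Subgroup.mem_subgroupOf] using this
    obtain ⟨i, hi⟩ := h1.2
    have h2 : g ∈ T.subgroupOf (Rs p K) :=
      ⟨g.2, i + 1, by rw [pow_succ', pow_mul]; exact hi⟩
    rw [(QuotientGroup.eq_one_iff g).2 h2, orderOf_one] at hy
    exact c.q_prime.one_lt.ne hy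
  obtain ⟨n, hn⟩ := hTq.exists_card_eq
  haveI : (T.subgroupOf (Rs p K)).Normal := Subgroup.normal_subgroupOf
  obtain ⟨Y', hY'⟩ := Subgroup.exists_right_complement'_of_coprime (N := T.subgroupOf (Rs p K)) (by
    rw [Nat.card_congr (Subgroup.subgroupOfEquivOfLe hTR).toEquiv, hn]
    exact (c.q_prime.coprime_iff_not_dvd.2 hidx).pow_left n)
  set Y := Y'.map (Rs p K).subtype with hY
  have hYR : Y ≤ Rs p K := Subgroup.map_subtype_le _
  have hcardY : Nat.card Y = T.relIndex (Rs p K) := by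
    rw [hY, Nat.card_congr (Y'.equivMapOfInjective _ (Rs p K).subtype_injective).symm.toEquiv]
    exact hY'.symm.index_eq_card.symm
  have hco : (Nat.card Y).Coprime (Nat.card T) := by
    rw [hn, hcardY]
    exact ((c.q_prime.coprime_iff_not_dvd.2 hidx).pow_left n).symm
  have hsup : T ⊔ Y = Rs p K := by
    have := congrArg (Subgroup.map (Rs p K).subtype) hY'.sup_eq_top
    rwa [Subgroup.map_sup, Subgroup.subgroupOf_map_subtype, inf_eq_left.2 hTR, ← hY,
      ← MonoidHom.range_eq_map, Subgroup.range_subtype] at this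
  have hdis : Y ⊓ T = ⊥ := Coprime.disjoint_of_coprime_card hco
  have hYab : ∀ a ∈ Y, ∀ b ∈ Y, a * b = b * a := fun a ha b hb => by
    rw [← commutatorElement_eq_one_iff_mul_comm, ← Subgroup.mem_bot, ← hdis]
    refine Subgroup.mem_inf.2 ⟨?_, hET (hcR a (hYR ha) b (hYR hb))⟩
    rw [commutatorElement_def]
    exact Y.mul_mem (Y.mul_mem (Y.mul_mem ha hb) (Y.inv_mem ha)) (Y.inv_mem hb)
  have hfix : ∀ e ∈ E, (∀ y ∈ Y, y * e = e * y) → e = 1 := fun e he hye => by
    have h1 : Rs p K ≤ Subgroup.centralizer ({e} : Set K) := by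
      rw [← hsup]
      exact sup_le (fun t ht => Subgroup.mem_centralizer_singleton_iff.2
          (Subgroup.mem_centralizer_iff.1 (hTE he) t ht))
        fun y hy => Subgroup.mem_centralizer_singleton_iff.2 (hye y hy)
    refine Subgroup.mem_bot.1 (hE ▸ Subgroup.mem_inf.2 ⟨he, Subgroup.mem_centralizer_iff.2 ?_⟩)
    exact fun a ha => Subgroup.mem_centralizer_singleton_iff.1 (h1 ha)
  -- `T = E`
  haveI := hTn
  have hTab : ⁅T, Y⁆ ≤ E := by
    rw [c.eq]; exact Subgroup.commutator_mono hTR hYR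
  have hX : T ⊓ Subgroup.centralizer (Y : Set K) = ⊥ := by
    have hZ : Rs p K ⊓ Subgroup.centralizer (Rs p K : Set K) = ⊥ := by
      by_contra hne
      have h1 := c.uniq (Rs p K ⊓ Subgroup.centralizer (Rs p K : Set K)) inferInstance
        (fun x hx => Subgroup.mem_inf.2 ⟨c.setup.map_Rs hx.1,
          Subgroup.mem_centralizer_iff.2 fun y hy => by
            rw [SetLike.mem_coe, ← map_eq_of_forall_mem σ _ fun y hy => c.setup.map_Rs hy] at hy
            obtain ⟨y, hy, rfl⟩ := hy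
            show σ y * σ x = σ x * σ y
            rw [← map_mul, ← map_mul, Subgroup.mem_centralizer_iff.1 hx.2 y hy]⟩)
        inf_le_left hne
      exact c.ne_bot (le_bot_iff.1 ((le_inf le_rfl (h1.trans inf_le_right)).trans hE.le))
    refine le_bot_iff.1 ((le_inf (inf_le_left.trans hTR) ?_).trans hZ.le)
    intro x hx
    have hxY : ∀ y ∈ Y, y * x = x * y := fun y hy => Subgroup.mem_centralizer_iff.1 hx.2 y hy
    have hxE : ∀ e ∈ E, x * e = e * x := fun e he =>
      Subgroup.mem_centralizer_iff.1 (hTE he) x hx.1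
    have hxT : ∀ t ∈ T, t * x = x * t := by
      intro t ht
      refine (commutatorElement_eq_one_iff_mul_comm.1 ?_).symm
      refine hfix _ (hcR x (hTR hx.1) t (hTR ht)) fun y hy => ?_
      have hz : ⁅y, t⁆ ∈ E := hcR y (hYR hy) t (hTR ht)
      have h1 : ⁅x, ⁅y, t⁆ * t⁆ = ⁅x, t⁆ := by
        have hze : ∀ w : K, w ∈ T → ⁅y, t⁆ * w = w * ⁅y, t⁆ := fun w hw =>
          (Subgroup.mem_centralizer_iff.1 (hTE hz) w hw).symm
        rw [commutatorElement_def x, commutatorElement_def x]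
        calc x * (⁅y, t⁆ * t) * x⁻¹ * (⁅y, t⁆ * t)⁻¹
            = (x * ⁅y, t⁆) * t * x⁻¹ * t⁻¹ * ⁅y, t⁆⁻¹ := by group
          _ = ⁅y, t⁆ * (x * t * x⁻¹ * t⁻¹) * ⁅y, t⁆⁻¹ := by rw [hxE _ hz]; group
          _ = _ := by
            rw [hze _ (mul_mem (mul_mem (mul_mem hx.1 ht) (inv_mem hx.1)) (inv_mem ht)),
              mul_inv_cancel_right]
      have h2 : y * ⁅x, t⁆ * y⁻¹ = ⁅x, t⁆ := by
        have h3 : y * ⁅x, t⁆ * y⁻¹ = ⁅y * x * y⁻¹, y * t * y⁻¹⁆ := by
          rw [commutatorElement_def, commutatorElement_def]; group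
        rw [h3, hxY y hy, mul_inv_cancel_right, show y * t * y⁻¹ = ⁅y, t⁆ * t by
          rw [commutatorElement_def, inv_mul_cancel_right], h1]
      exact mul_inv_eq_iff_eq_mul.1 h2
    refine Subgroup.mem_centralizer_iff.2 fun a ha => ?_
    have h1 : Rs p K ≤ Subgroup.centralizer ({x} : Set K) := by
      rw [← hsup]
      exact sup_le (fun t ht => Subgroup.mem_centralizer_singleton_iff.2 (hxT t ht))
        fun y hy => Subgroup.mem_centralizer_singleton_iff.2 (hxY y hy)
    exact Subgroup.mem_centralizer_singleton_iff.1 (h1 ha)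
  have hT : T = E := by
    refine le_antisymm ?_ hET
    have h1 := Coprime.commutator_sup_centralizer (A := Y) (K := T)
      (by rw [Subgroup.normalizer_eq_top]; exact le_top) hco
      (Or.inr (by haveI := hTq.isNilpotent; infer_instance))
    rw [hX, sup_bot_eq] at h1
    exact h1 ▸ hTab
  exact ⟨Y, hYR, hT ▸ hco, hT ▸ hsup, hYab, hfix⟩

/-- `C_E(R) = 1` is impossible. -/
theorem false_of_noncentral (c : Crit r p q K σ P E)
    (hE : E ⊓ Subgroup.centralizer (Rs p K : Set K) = ⊥) : False := by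
  classical
  haveI := c.normal
  haveI := Fact.mk c.q_prime
  haveI := Fintype.ofFinite (Rs p K)
  obtain ⟨Y, hYR, hco, hsup, hYab, hfix⟩ := c.exists_complement hE
  have hdisY : Y ⊓ E = ⊥ := Coprime.disjoint_of_coprime_card hco
  haveI : IsMulCommutative E := ⟨⟨fun a b => Subtype.ext (c.comm a a.2 b b.2)⟩⟩
  -- `M = N_K(Y)`
  set M := Subgroup.normalizer (Y : Set K) with hM
  have hEM : ∀ e ∈ E, e ∈ M → e = 1 := fun e he heM => hfix e he fun y hy => by
    refine (commutatorElement_eq_one_iff_mul_comm.1 (Subgroup.mem_bot.1 (hdisY ▸ ?_))).symm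
    refine Subgroup.mem_inf.2 ⟨?_, ?_⟩
    · rw [commutatorElement_def]
      exact mul_mem ((Subgroup.mem_normalizer_iff.1 heM y).1 hy) (inv_mem hy)
    · rw [commutatorElement_def, mul_assoc, mul_assoc]
      refine mul_mem he ?_
      rw [← mul_assoc]
      exact c.normal.conj_mem _ (inv_mem he) y
  have hEsupM : E ⊔ M = ⊤ := by
    refine (Subgroup.eq_top_iff' _).2 fun g => ?_
    obtain ⟨e, he, hge⟩ := Coprime.exists_conj_eq_of_le_sup_of_comm E Y (MulAut.conj g • Y)
      (by rw [Subgroup.normalizer_eq_top]; exact le_top)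
      (by
        rw [sup_comm, hsup]
        intro a ha
        obtain ⟨b, hb, rfl⟩ := ha
        exact Subgroup.Normal.conj_mem inferInstance b (hYR hb) g)
      (Coprime.card_conj_smul g Y) hco
    have h1 : e⁻¹ * g ∈ M := by
      refine Coprime.mem_normalizer_of_conj_smul_eq ?_
      rw [map_mul, mul_smul, map_inv, inv_smul_eq_iff]
      exact hge.symm
    have := Subgroup.mul_mem_sup he h1
    rwa [mul_inv_cancel_left] at this
  have hMdis : Disjoint E M := Subgroup.disjoint_def.2 fun h1 h2 => hEM _ h1 h2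
  have hYM : Y ≤ M := Subgroup.le_normalizer
  by_cases hH : ∀ β : IrrCharacter (Hs P), degree β = 1
  · -- an element of order `p` without fixed points on `R`
    have hHab := forall_comm_of_degrees (Hs P) hH
    have hPbot : ⁅(P : Subgroup K), (P : Subgroup K)⁆ = ⊥ := by
      rw [eq_bot_iff, Subgroup.commutator_le]
      intro a ha b hb
      rw [Subgroup.mem_bot, commutatorElement_eq_one_iff_mul_comm]
      exact hHab a (P_le_Hs ha) b (P_le_Hs hb)
    obtain ⟨x, hx, hxm⟩ := c.setup.moved'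
    obtain ⟨hz, hzm⟩ := c.setup.moved_diff hx hxm
    set z := σ x * x⁻¹ with hzdef
    have hz1 : z ≠ 1 := fun h1 => by
      rw [h1, Moved, map_one, inv_one, one_mul] at hzm
      exact hzm (one_mem _)
    obtain ⟨n, hn⟩ := P.2 ⟨z, hz⟩
    obtain ⟨i, -, hi⟩ := (Nat.dvd_prime_pow (Fact.out : p.Prime)).1
      (orderOf_dvd_of_pow_eq_one (congrArg Subtype.val hn : z ^ p ^ n = 1))
    obtain ⟨i, rfl⟩ : ∃ j, i = j + 1 := ⟨i - 1, by
      rcases i with _ | i
      · exact absurd (orderOf_eq_one_iff.1 (by simpa using hi)) hz1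
      · rfl⟩
    set x' := z ^ p ^ i with hx'
    have hx'P : x' ∈ (P : Subgroup K) := (P : Subgroup K).pow_mem hz _
    have hx'ord : orderOf x' = p := by
      rw [hx', orderOf_pow_of_dvd (pow_ne_zero _ (Fact.out : p.Prime).ne_zero)
        (by rw [hi]; exact pow_dvd_pow p (Nat.le_succ i)), hi, pow_succ,
        Nat.mul_div_cancel_left _ (pow_pos (Fact.out : p.Prime).pos i)]
    have hx'm : Moved σ x' := by
      have hy : x ^ p ^ i ∈ (P : Subgroup K) := (P : Subgroup K).pow_mem hx _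
      have hzy : x' = σ (x ^ p ^ i) * (x ^ p ^ i)⁻¹ := by
        have hc : Commute (σ x) x⁻¹ :=
          hHab _ (P_le_Hs (c.setup.map_P x hx)) _ (inv_mem (P_le_Hs hx))
        rw [hx', hzdef, hc.mul_pow, map_pow, inv_pow]
      have hym : Moved σ (x ^ p ^ i) := by
        intro hmem
        rw [c.setup.mem_commutator_iff (P_le_Hs (hzy ▸ hx'P : _ ∈ (P : Subgroup K))), hPbot,
          Subgroup.mem_bot, ← hzy] at hmem
        rw [hmem, orderOf_one] at hx'ord
        exact (Fact.out : p.Prime).one_lt.ne hx'ord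
      rw [hzy]
      exact (c.setup.moved_diff hy hym).2
    -- conjugate into `M`
    have hidx : ¬ p ∣ M.index := by
      have h1 := card_sup_mul_inf E M
      rw [hEsupM, hMdis.eq_bot, Subgroup.card_bot, mul_one, Subgroup.card_top, mul_comm] at h1
      have h2 : M.index = Nat.card E :=
        Nat.eq_of_mul_eq_mul_left Nat.card_pos (M.card_mul_index.trans h1)
      rw [h2]
      exact fun hd => c.setup.hQ (hd.trans (Subgroup.card_dvd_of_le (c.le_Rs.trans Rs_le_Qr)))
    have hpz : IsPGroup p (Subgroup.zpowers x') :=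
      IsPGroup.of_card (n := 1) (by rw [Nat.card_zpowers, hx'ord, pow_one])
    obtain ⟨gM, hgM⟩ := hpz.nonempty_fixed_point_of_prime_not_dvd_card (K ⧸ M)
      (by rwa [← Subgroup.index_eq_card])
    obtain ⟨g, rfl⟩ := QuotientGroup.mk_surjective gM
    set x'' := g⁻¹ * x' * g with hx''
    have hx''M : x'' ∈ M := by
      have h1 : ((x' * g : K) : K ⧸ M) = (g : K ⧸ M) := hgM ⟨x', Subgroup.mem_zpowers x'⟩
      have h2 := QuotientGroup.eq.1 h1.symm
      rwa [← mul_assoc] at h2
    have hx''p : x'' ^ p = 1 := by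
      have h0 : x'' = g⁻¹ * x' * g⁻¹⁻¹ := by rw [inv_inv]
      rw [h0, conj_pow, ← hx'ord, pow_orderOf_eq_one, mul_one, mul_inv_cancel]
    have hfpf : ∀ j, 0 < j → j < p → ∀ e ∈ Rs p K, x'' ^ j * e = e * x'' ^ j → e = 1 := by
      intro j hj0 hjp e he hje
      have hco' : Nat.Coprime j (orderOf x'') := (Nat.Coprime.coprime_dvd_right
        (orderOf_dvd_of_pow_eq_one hx''p)
        (((Fact.out : p.Prime).coprime_iff_not_dvd.2 (Nat.not_dvd_of_pos_of_lt hj0 hjp)).symm))
      obtain ⟨m, hm⟩ := exists_pow_eq_self_of_coprime hco'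
      have h1 : Commute x'' e := hm ▸ (Commute.pow_left hje m)
      have he' : g * e * g⁻¹ ∈ Rs p K := Subgroup.Normal.conj_mem inferInstance e he g
      have h2 : x' * (g * e * g⁻¹) = g * e * g⁻¹ * x' := by
        calc x' * (g * e * g⁻¹) = g * (x'' * e) * g⁻¹ := by rw [hx'']; group
          _ = g * e * g⁻¹ * x' := by rw [h1.eq, hx'']; group
      exact conj_eq_one_iff.1 (c.setup.fpf (P_le_Hs hx'P) hx'm he' h2)
    letI : CommGroup E :=
      { (inferInstance : Group E) with mul_comm := fun a b => Subtype.ext (c.comm a a.2 b b.2) }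
    haveI := Fintype.ofFinite Y
    have hxY : ∀ y ∈ Y, x'' * y * x''⁻¹ ∈ Y := fun y hy =>
      (Subgroup.mem_normalizer_iff.1 hx''M y).1 hy
    let b : MulAut Y := MulEquiv.ofBijective
      (MonoidHom.mk' (fun y : Y => (⟨x'' * y * x''⁻¹, hxY y y.2⟩ : Y))
        (fun a b => Subtype.ext (by simp [mul_assoc])))
      (Finite.injective_iff_bijective.1 fun a b hab => by
        have := congrArg Subtype.val hab
        exact Subtype.ext (mul_left_cancel (mul_right_cancel (show x'' * a * x''⁻¹ =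
          x'' * b * x''⁻¹ from this))))
    have hbapp : ∀ y : Y, ((b y : Y) : K) = x'' * y * x''⁻¹ := fun _ => rfl
    have hbpow : ∀ (j : ℕ) (y : Y), (((b ^ j) y : Y) : K) = x'' ^ j * y * (x'' ^ j)⁻¹ := by
      intro j
      induction j with
      | zero => simp
      | succ j ih =>
        intro y
        rw [pow_succ', MulAut.mul_apply, hbapp, ih, pow_succ']
        group
    obtain ⟨e, heE, he1⟩ : ∃ e ∈ E, e ≠ (1 : K) := by
      by_contra! hcon
      exact c.ne_bot ((Subgroup.eq_bot_iff_forall _).2 hcon)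
    have key := eq_one_of_fpf (E := E) (Y := Y)
      ((MulAut.conjNormal (H := E)).comp Y.subtype) (MulAut.conjNormal x'') b (Fact.out : p.Prime)
      (fun e => by rw [← map_pow, hx''p, map_one, MulAut.one_apply])
      (fun y e => Subtype.ext (by
        simp only [MonoidHom.comp_apply, Subgroup.coe_subtype, MulAut.conjNormal_apply, hbapp]
        group))
      (fun j hj0 hjp y hy => Subtype.ext (hfpf j hj0 hjp y (hYR y.2) (by
        have h1 := congrArg Subtype.val hy
        rw [hbpow] at h1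
        exact mul_inv_eq_iff_eq_mul.1 h1)))
      (fun e he => Subtype.ext (hfix e e.2 fun y hy => by
        have h1 := congrArg Subtype.val (he ⟨y, hy⟩)
        simp only [MonoidHom.comp_apply, Subgroup.coe_subtype, MulAut.conjNormal_apply] at h1
        exact mul_inv_eq_iff_eq_mul.1 h1))
      (fun e he => Subtype.ext (hfpf 1 one_pos (Fact.out : p.Prime).one_lt e (c.le_Rs e.2) (by
        have h1 := congrArg Subtype.val he
        simp only [MulAut.conjNormal_apply] at h1
        rw [pow_one]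
        exact mul_inv_eq_iff_eq_mul.1 h1)))
      ⟨e, heE⟩
    have h1 : e ^ Fintype.card Y = 1 := congrArg Subtype.val key
    rw [Fintype.card_eq_nat_card] at h1
    refine he1 (orderOf_eq_one_iff.1 (Nat.eq_one_of_dvd_coprimes hco
      (orderOf_dvd_of_pow_eq_one h1) ?_))
    exact Subgroup.orderOf_dvd_natCard E heE
  -- `H` is not abelian
  push Not at hH
  obtain ⟨β₀, hβ₀⟩ := hH
  haveI := Fintype.ofFinite E
  obtain ⟨ε, hε⟩ : ∃ ε : Lin E, ε ≠ 1 := by
    obtain ⟨e, heE, he1⟩ : ∃ e ∈ E, e ≠ (1 : K) := by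
      by_contra! hcon
      exact c.ne_bot ((Subgroup.eq_bot_iff_forall _).2 hcon)
    by_contra! hall
    refine he1 (congrArg Subtype.val
      (eq_one_of_forall_hom (H := E) (fun a b => Subtype.ext (c.comm a a.2 b b.2))
        (h := ⟨e, heE⟩) fun w => DFunLike.congr_fun (hall (w : Lin E)) ⟨e, heE⟩))
  set S := MulAction.stabilizer K ε ⊓ M with hS
  haveI := Fintype.ofFinite S
  -- `Y` moves `ε`
  have hYε : ¬ Y ≤ S := by
    intro hle
    refine hε (Lin.ext fun e => ?_)
    let F : Subgroup K := (MonoidHom.ker (ε : E →* ℂˣ)).map E.subtype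
    have h1 : ⁅E, Y⁆ ≤ F := by
      rw [Subgroup.commutator_le]
      intro a ha y hy
      refine ⟨⟨a, ha⟩ * (MulAut.conjNormal y ⟨a, ha⟩)⁻¹, ?_, ?_⟩
      · show ε (⟨a, ha⟩ * (MulAut.conjNormal y ⟨a, ha⟩)⁻¹) = 1
        rw [map_mul, map_inv, (lin_smul_eq_iff y ε).1 (hle hy).1, mul_inv_cancel]
      · rw [commutatorElement_def]
        simp [mul_assoc]
    have h2 : E ≤ F := by
      have h3 := Coprime.commutator_sup_centralizer (A := Y) (K := E)
        (by rw [Subgroup.normalizer_eq_top]; exact le_top) hco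
        (Or.inr (by haveI := c.isPGroup.isNilpotent; infer_instance))
      rw [show E ⊓ Subgroup.centralizer (Y : Set K) = ⊥ from (Subgroup.eq_bot_iff_forall _).2
        fun a ha => hfix a ha.1 fun y hy => Subgroup.mem_centralizer_iff.1 ha.2 y hy,
        sup_bot_eq] at h3
      exact h3 ▸ h1
    obtain ⟨a, ha, hae⟩ := h2 e.2
    rw [← show a = e from Subtype.ext hae]
    exact ha
  have hD1 : 1 < S.relIndex M := by
    by_contra hcon
    have h0 : S.relIndex M ≠ 0 := Subgroup.index_ne_zero_of_finite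
    exact hYε (hYM.trans (Subgroup.relIndex_eq_one.1 (show S.relIndex M = 1 by omega)))
  obtain ⟨φ, hφ⟩ := exists_degree_over E M hMdis hEsupM ε hS (trivialChar S)
  have ht : degree (trivialChar S) = 1 := degree_eq_of_apply_one (by simp [trivialChar])
  rw [ht, mul_one] at hφ
  have hSab : ∀ a ∈ S, ∀ b ∈ S, a * b = b * a := forall_comm_of_degrees S fun β => by
    obtain ⟨χ, hχ⟩ := exists_degree_over E M hMdis hEsupM ε hS β
    have hχ1 : degree χ ≠ 1 := fun e1 => hD1.ne' (Nat.dvd_one.1 ⟨degree β, by rw [← hχ, e1]⟩)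
    have h2 := c.setup.anti φ χ (by omega) hχ1 (by rw [hφ, hχ]; exact dvd_mul_right _ _)
    rw [hφ, hχ] at h2
    exact (Nat.mul_eq_left (by omega)).1 h2.symm
  -- the image of `S` in `H`
  set S' := (Rs p K ⊔ S) ⊓ Hs P with hS'
  have hS'ab : ∀ a ∈ S', ∀ b ∈ S', a * b = b * a := by
    intro a ha b hb
    rw [← commutatorElement_eq_one_iff_mul_comm]
    obtain ⟨u, hu, s, hs, hua⟩ := Subgroup.mem_sup_of_normal_left.1 ha.1
    obtain ⟨v, hv, t, ht', hvb⟩ := Subgroup.mem_sup_of_normal_left.1 hb.1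
    refine c.setup.eq_one_of_mem ?_ ?_
    · rw [← QuotientGroup.eq_one_iff]
      show QuotientGroup.mk' (Rs p K) ⁅a, b⁆ = 1
      rw [map_commutatorElement, ← hua, ← hvb, map_mul, map_mul,
        show QuotientGroup.mk' (Rs p K) u = 1 from (QuotientGroup.eq_one_iff u).2 hu,
        show QuotientGroup.mk' (Rs p K) v = 1 from (QuotientGroup.eq_one_iff v).2 hv, one_mul,
        one_mul, ← map_commutatorElement, commutatorElement_eq_one_iff_mul_comm.2
          (hSab s hs t ht'), map_one]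
    · rw [commutatorElement_def]
      exact mul_mem (mul_mem (mul_mem ha.2 hb.2) (inv_mem ha.2)) (inv_mem hb.2)
  -- counting
  have hRM : Rs p K ⊓ M = Y := by
    refine le_antisymm (fun a ha => ?_) (le_inf hYR hYM)
    obtain ⟨e, he, y, hy, rfl⟩ :=
      Subgroup.mem_sup_of_normal_left.1 (hsup.symm ▸ ha.1 : a ∈ E ⊔ Y)
    rw [hEM e he (by simpa using M.mul_mem ha.2 (M.inv_mem (hYM hy))), one_mul]
    exact hy
  have hRS : Rs p K ⊓ S = S ⊓ Y := by
    rw [← hRM, hS, inf_comm _ (MulAction.stabilizer K ε ⊓ M),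
      inf_comm (Rs p K) M, ← inf_assoc, inf_assoc (MulAction.stabilizer K ε) M M, inf_idem]
  have e1 := card_sup_mul_inf (Rs p K) S
  rw [hRS] at e1
  have hsup' : Rs p K ⊔ S = Rs p K ⊔ S' := by
    refine le_antisymm (sup_le le_sup_left fun s hs => ?_) (sup_le le_sup_left inf_le_left)
    obtain ⟨u, hu, a, ha, rfl⟩ := c.setup.exists_mul s
    refine Subgroup.mul_mem_sup hu (Subgroup.mem_inf.2 ⟨?_, ha⟩)
    have := Subgroup.mul_mem_sup ((Rs p K).inv_mem hu) hs
    rwa [inv_mul_cancel_left] at this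
  have e2 := card_sup_mul_inf (Rs p K) S'
  rw [← hsup', le_bot_iff.1 ((inf_le_inf_left _ inf_le_right).trans c.setup.Rs_inf_Hs.le),
    Subgroup.card_bot, mul_one] at e2
  have e3 : Nat.card M = Nat.card Y * Nat.card (Hs P) := by
    have h1 := card_sup_mul_inf E M
    rw [hEsupM, hMdis.eq_bot, Subgroup.card_bot, mul_one, Subgroup.card_top, c.setup.card_eq] at h1
    have h2 := card_sup_mul_inf E Y
    rw [hsup, inf_comm E Y, hdisY, Subgroup.card_bot, mul_one] at h2
    rw [h2, mul_assoc] at h1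
    exact (Nat.eq_of_mul_eq_mul_left Nat.card_pos h1).symm
  have hcm : ∀ {A B : Subgroup K}, A ≤ B → Nat.card A * A.relIndex B = Nat.card B := fun {A B} hAB => by
    rw [← Subgroup.relIndex_bot_left (H := A), ← Subgroup.relIndex_bot_left (H := B)]
    exact Subgroup.relIndex_mul_relIndex _ _ _ bot_le hAB
  have e4 := hcm (inf_le_right : S ⊓ Y ≤ Y)
  have e5 := hcm (inf_le_right : S' ≤ Hs P)
  have e6 := hcm (inf_le_right : S ≤ M)
  have hS'card : Nat.card S' * Nat.card ↥(S ⊓ Y) = Nat.card S := by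
    rw [e2, mul_assoc] at e1
    exact Nat.eq_of_mul_eq_mul_left Nat.card_pos e1
  have hD : S.relIndex M = S'.relIndex (Hs P) * (S ⊓ Y).relIndex Y := by
    refine Nat.eq_of_mul_eq_mul_left (Nat.card_pos (α := S)) ?_
    rw [e6, e3, ← e4, ← e5, ← hS'card]
    ring
  -- a proper multiple of the degree of `β₀`
  obtain ⟨χ, hχ⟩ := c.setup.exists_degree_Hs β₀
  have hdvd : degree χ ∣ degree φ := by
    rw [hχ, hφ, hD]
    exact (c.setup.degree_dvd_relIndex S' inf_le_right hS'ab β₀).mul_right _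
  have heq := c.setup.anti χ φ (hχ ▸ hβ₀) (by omega) hdvd
  obtain ⟨m, hm⟩ := c.setup.degree_Hs_pow β₀
  have hk : (S ⊓ Y).relIndex Y ∣ p ^ m := by
    rw [← hm, ← hχ, heq, hφ, hD]
    exact dvd_mul_left _ _
  obtain ⟨j, -, hj⟩ := (Nat.dvd_prime_pow (Fact.out : p.Prime)).1 hk
  rcases j with _ | j
  · exact hYε ((Subgroup.relIndex_eq_one.1 (hj.trans (pow_zero p))).trans inf_le_left)
  · refine c.setup.hQ (dvd_trans (dvd_trans ?_ (Subgroup.relIndex_dvd_card (S ⊓ Y) Y))
      (Subgroup.card_dvd_of_le (hYR.trans Rs_le_Qr)))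
    rw [hj]
    exact dvd_pow_self p j.succ_ne_zero

end Crit

end Cfsg.Agent.NonDivDeg
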