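import Cfsg.Agent.Lib.NonDivDeg.Setup
import Cfsg.Agent.Lib.Char.Descend

/-!
# Normalising the automorphism, passing to quotients, the case of abelian `[Q, K]`

* `exists_setup` : the automorphism may be chosen to fix a Sylow `p`-subgroup and to have `r`-power order.
* `Hyp.quotient` : the hypotheses pass to quotients by invariant normal subgroups of the derived subgroup.
* `Setup.degree_eq_of_abelian` : if `[Q, K]` is abelian the non-linear degrees are equal.
-/

set_option autoImplicit false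
set_option linter.style.haveILetI false
set_option linter.unusedSectionVars false

namespace Cfsg.Agent.NonDivDeg

open Cfsg.Agent Cfsg.Agent.Char Cfsg.Agent.RelDeg
open scoped commutatorElement Pointwise

universe u

variable {K : Type u} [Group K] [Fintype K] {r p : ℕ}

theorem exists_conj_mul_pow {G : Type*} [Group G] (a : G) (σ : MulAut G) (n : ℕ) :
    ∃ b : G, (MulAut.conj a * σ) ^ n = MulAut.conj b * σ ^ n := by
  induction n with
  | zero => exact ⟨1, by simp⟩
  | succ n ih =>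
    obtain ⟨b, hb⟩ := ih
    refine ⟨a * σ b, ?_⟩
    rw [pow_succ' (MulAut.conj a * σ), hb, pow_succ']
    ext g
    simp [mul_assoc]

theorem exists_setup [Fact p.Prime] {σ : MulAut K} (h : Hyp r p K σ) :
    ∃ (τ : MulAut K) (P : Sylow p K), Setup r p K τ P := by
  haveI : Finite (MulAut K) :=
    Finite.of_injective (fun e : MulAut K => (e : K → K)) DFunLike.coe_injective
  set P : Sylow p K := default with hPdef
  obtain ⟨a, ha⟩ := MulAction.exists_smul_eq K (σ • P) P
  set σ₁ : MulAut K := MulAut.conj a * σ with hσ₁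
  have hfix : σ₁ • P = P := by
    rw [hσ₁, mul_smul]
    exact ha
  obtain ⟨k, hk⟩ := h.inner
  obtain ⟨b, hb⟩ := exists_conj_mul_pow a σ r
  rw [← hσ₁, hk, ← map_mul] at hb
  -- the order
  obtain ⟨m, o, ho, hom⟩ := Nat.exists_eq_pow_mul_and_not_dvd
    (orderOf_pos σ₁).ne' r h.r_prime.ne_one
  obtain ⟨e, he1, he0⟩ := Nat.chineseRemainder ((h.r_prime.coprime_iff_not_dvd).2 ho) 1 0
  set τ := σ₁ ^ e with hτ
  have hτord : τ ^ r ^ m = 1 := by
    rw [hτ, ← pow_mul, ← orderOf_dvd_iff_pow_eq_one, hom, mul_comm]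
    exact Nat.mul_dvd_mul_right (Nat.modEq_zero_iff_dvd.1 he0) _
  obtain ⟨j, hj⟩ : ∃ j, e = r * j + 1 := by
    refine ⟨e / r, ?_⟩
    have := Nat.div_add_mod e r
    rw [show e % r = 1 from Eq.trans he1 (Nat.mod_eq_of_lt h.r_prime.one_lt)] at this
    exact this.symm
  have hτeq : τ = MulAut.conj ((b * k) ^ j * a) * σ := by
    rw [hτ, hj, pow_succ, pow_mul, hb, ← map_pow, hσ₁, ← mul_assoc, ← map_mul]
  have hτfix : τ • P = P := by
    rw [← MulAction.mem_stabilizer_iff]
    exact pow_mem (MulAction.mem_stabilizer_iff.2 hfix) e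
  set k₂ := (b * k) ^ e with hk₂
  have hτr : τ ^ r = MulAut.conj k₂ := by
    rw [hτ, ← pow_mul, mul_comm, pow_mul, hb, ← map_pow]
  -- the `r`-part of the inner part
  obtain ⟨i, o', ho', hoi⟩ := Nat.exists_eq_pow_mul_and_not_dvd
    (orderOf_pos k₂).ne' r h.r_prime.ne_one
  obtain ⟨f, hf1, hf0⟩ := Nat.chineseRemainder
    (((h.r_prime.coprime_iff_not_dvd).2 ho').pow_left m) 1 0
  set k₃ := k₂ ^ f with hk₃
  have hconj : τ ^ r = MulAut.conj k₃ := by
    rw [hk₃, map_pow, ← hτr]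
    conv_lhs => rw [← pow_one (τ ^ r)]
    refine pow_eq_pow_iff_modEq.2 (Nat.ModEq.of_dvd ?_ hf1.symm)
    refine orderOf_dvd_of_pow_eq_one ?_
    rw [← pow_mul, mul_comm, pow_mul, hτord, one_pow]
  have hk₃ord : k₃ ^ r ^ i = 1 := by
    rw [hk₃, ← pow_mul, ← orderOf_dvd_iff_pow_eq_one, hoi, mul_comm]
    exact Nat.mul_dvd_mul_right (Nat.modEq_zero_iff_dvd.1 hf0) _
  have hk₃Q : k₃ ∈ Qr p K := by
    refine Transfer.mem_residual_of_coprime ?_
    refine Nat.Coprime.coprime_dvd_left (orderOf_dvd_of_pow_eq_one hk₃ord) ?_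
    exact ((h.r_prime.coprime_iff_not_dvd).2
      fun hd => h.ne ((Nat.prime_dvd_prime_iff_eq h.r_prime h.p_prime).1 hd)).pow_left i
  have hmapP : ∀ u ∈ (P : Subgroup K), τ u ∈ (P : Subgroup K) := by
    intro u hu
    have h1 : τ u ∈ τ • (P : Subgroup K) := Subgroup.smul_mem_pointwise_smul u τ _ hu
    rwa [← Sylow.pointwise_smul_def, hτfix] at h1
  have hpow : ∀ n u, u ∈ (P : Subgroup K) → (τ ^ n) u ∈ (P : Subgroup K) := by
    intro n
    induction n with
    | zero => intro u hu; simpa using hu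
    | succ n ih => intro u hu; rw [pow_succ', MulAut.mul_apply]; exact hmapP _ (ih u hu)
  have hk₃C : k₃ ∈ Cs P := by
    refine ⟨hk₃Q, Subgroup.mem_centralizer_iff.2 fun u hu => ?_⟩
    have h1 : k₃ * u * k₃⁻¹ ∈ (P : Subgroup K) := by
      have := hpow r u hu
      rwa [hconj, MulAut.conj_apply] at this
    have h2 : ⁅k₃, u⁆ ∈ (P : Subgroup K) ⊓ Qr p K := by
      rw [commutatorElement_def]
      refine ⟨(P : Subgroup K).mul_mem h1 ((P : Subgroup K).inv_mem hu), ?_⟩
      have h3 := (Qr_normal p K).conj_mem _ ((Qr p K).inv_mem hk₃Q) u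
      have h4 := (Qr p K).mul_mem hk₃Q h3
      simpa [mul_assoc] using h4
    rw [P_inf_Qr h.not_dvd_Qr, Subgroup.mem_bot, commutatorElement_eq_one_iff_mul_comm] at h2
    exact h2.symm
  -- the moved element
  obtain ⟨x, ⟨n, hx⟩, hxm⟩ := h.moved
  obtain ⟨P', hP'⟩ := (IsPGroup.iff_card.2 (by
    obtain ⟨l, -, hl⟩ := (Nat.dvd_prime_pow (Fact.out : p.Prime)).1 (orderOf_dvd_of_pow_eq_one hx)
    exact ⟨l, by rw [Nat.card_zpowers, hl]⟩) : IsPGroup p (Subgroup.zpowers x)).exists_le_sylow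
  obtain ⟨g, hg⟩ := MulAction.exists_smul_eq K P' P
  have hgP : g * x * g⁻¹ ∈ (P : Subgroup K) := by
    rw [← hg]
    change g * x * g⁻¹ ∈ MulAut.conj g • (P' : Subgroup K)
    exact Subgroup.smul_mem_pointwise_smul x (MulAut.conj g) _ (hP' (Subgroup.mem_zpowers x))
  refine ⟨τ, P, ⟨h.r_prime, h.p_prime, h.ne, ⟨k₂, hτr⟩, h.p_dvd, h.r_ndvd, h.anti,
    fun ψ hψ y => ?_, ?_⟩, hmapP, ⟨k₃, hk₃C, ⟨i, hk₃ord⟩, hconj⟩, g * x * g⁻¹, hgP, ?_⟩
  · rw [hτeq, MulAut.mul_apply, MulAut.conj_apply,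
      IsCharacter.isClassFunction (irr_isCharacter ψ), h.invariant ψ hψ]
  · exact ⟨x, ⟨n, hx⟩, by
      rw [moved_iff] at hxm ⊢
      rw [hτeq, MulAut.mul_apply, MulAut.conj_apply, map_mul _ (_ * σ x), map_mul, map_inv,
        mul_comm, inv_mul_cancel_left]
      exact hxm⟩
  · have h1 := moved_conj hxm g
    rw [moved_iff] at h1 ⊢
    rw [hτeq, MulAut.mul_apply, MulAut.conj_apply, map_mul _ (_ * σ (g * x * g⁻¹)), map_mul, map_inv,
      mul_comm, inv_mul_cancel_left]
    exact h1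

theorem degree_inflate' (E : Subgroup K) [E.Normal] (ψ : IrrCharacter (K ⧸ E)) :
    degree (inflate E ψ) = degree ψ :=
  degree_eq_of_apply_one (by rw [inflate_apply, QuotientGroup.mk_one, apply_one_eq_degree])

theorem Hyp.quotient {σ : MulAut K} (h : Hyp r p K σ) (E : Subgroup K) [E.Normal]
    (hE : E.map σ.toMonoidHom = E) (hEc : E ≤ commutator K) :
    Hyp r p (K ⧸ E) (QuotientGroup.congr E E σ hE) := by
  set τ : MulAut (K ⧸ E) := QuotientGroup.congr E E σ hE with hτ
  have happ : ∀ (n : ℕ) (g : K), (τ ^ n) (g : K ⧸ E) = ((σ ^ n) g : K) := by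
    intro n g
    induction n with
    | zero => simp
    | succ n ih => rw [pow_succ', pow_succ', MulAut.mul_apply, MulAut.mul_apply, ih]; rfl
  refine ⟨h.r_prime, h.p_prime, h.ne, ?_, fun ψ hψ => ?_, fun ψ => ?_,
    fun ψ φ h1 h2 h3 => ?_, fun ψ hψ g => ?_, ?_⟩
  · obtain ⟨k, hk⟩ := h.inner
    refine ⟨(k : K ⧸ E), MulEquiv.ext fun g => ?_⟩
    obtain ⟨g, rfl⟩ := QuotientGroup.mk_surjective g
    rw [happ, hk, MulAut.conj_apply, MulAut.conj_apply, QuotientGroup.mk_mul, QuotientGroup.mk_mul,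
      QuotientGroup.mk_inv]
  · rw [← degree_inflate'] at hψ ⊢
    exact h.p_dvd _ hψ
  · rw [← degree_inflate']
    exact h.r_ndvd _
  · rw [← degree_inflate'] at h1 h2
    rw [← degree_inflate' E ψ, ← degree_inflate' E φ] at h3 ⊢
    exact h.anti _ _ h1 h2 h3
  · obtain ⟨g, rfl⟩ := QuotientGroup.mk_surjective g
    rw [← degree_inflate'] at hψ
    exact h.invariant _ hψ g
  · obtain ⟨x, ⟨n, hx⟩, hxm⟩ := h.moved
    refine ⟨(x : K ⧸ E), ⟨n, by rw [← QuotientGroup.mk_pow, hx, QuotientGroup.mk_one]⟩,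
      fun hmem => hxm ?_⟩
    have h1 : (commutator K).map (QuotientGroup.mk' E) = commutator (K ⧸ E) := by
      rw [commutator_def, commutator_def, Subgroup.map_commutator,
        Subgroup.map_top_of_surjective _ (QuotientGroup.mk'_surjective E)]
    have h2 : σ x * x⁻¹ ∈ ((commutator K).map (QuotientGroup.mk' E)).comap (QuotientGroup.mk' E) := by
      rw [Subgroup.mem_comap, h1]
      exact hmem
    rwa [Subgroup.comap_map_eq, QuotientGroup.ker_mk', sup_eq_left.2 hEc] at h2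

namespace Setup

variable [Fact p.Prime] {σ : MulAut K} {P : Sylow p K}

/-- If `[Q, K]` is abelian, all non-linear degrees are equal. -/
theorem degree_eq_of_abelian (h : Setup r p K σ P)
    (hR : ⁅Rs p K, Rs p K⁆ = ⊥) (ψ φ : IrrCharacter K) (hψ : degree ψ ≠ 1) (hφ : degree φ ≠ 1) :
    degree ψ = degree φ := by
  haveI := Fintype.ofFinite (Rs p K)
  have hRab : ∀ a ∈ Rs p K, ∀ b ∈ Rs p K, a * b = b * a := fun a ha b hb => by
    rw [← commutatorElement_eq_one_iff_mul_comm, ← Subgroup.mem_bot, ← hR]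
    exact Subgroup.commutator_mem_commutator ha hb
  by_cases hR1 : Rs p K = ⊥
  · -- `K = H`
    have hH : Hs P = ⊤ := by
      have := h.sup_eq_top
      rwa [hR1, bot_sup_eq] at this
    haveI := Fintype.ofFinite (Hs P)
    let π : Hs P ≃* K := (MulEquiv.subgroupCongr hH).trans Subgroup.topEquiv
    let res : IrrCharacter K → IrrCharacter (Hs P) := fun χ =>
      ⟨_, IsIrrCharacter.comp_surjective χ.2 π.toMonoidHom π.surjective⟩
    have hres : ∀ χ, degree (res χ) = degree χ := fun χ => degree_eq_of_apply_one (by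
      show χ.1 (π 1) = _
      rw [map_one, apply_one_eq_degree])
    rw [← hres ψ, ← hres φ]
    exact h.degree_Hs_eq _ _ (by rwa [hres]) (by rwa [hres])
  obtain ⟨v, hv⟩ : ∃ v : Lin (Rs p K), v ≠ 1 := by
    obtain ⟨e, he, he1⟩ := (Subgroup.ne_bot_iff_exists_ne_one.1 hR1).elim
      fun a ha => (⟨a.1, a.2, fun h1 => ha (Subtype.ext h1)⟩ : ∃ e ∈ Rs p K, e ≠ 1)
    by_contra! hall
    refine he1 (congrArg Subtype.val
      (eq_one_of_forall_hom (H := Rs p K) (fun a b => Subtype.ext (hRab a a.2 b b.2))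
        (h := ⟨e, he⟩) fun w => ?_))
    exact DFunLike.congr_fun (show (w : Lin (Rs p K)) = 1 from hall w) ⟨e, he⟩
  have hcomm : ∀ a ∈ Szero P, ∀ e ∈ Rs p K, a * e = e * a := by
    intro a ha e he
    have he' : a * e * a⁻¹ ∈ Rs p K := Subgroup.Normal.conj_mem inferInstance e he a
    have h1 : (⟨a * e * a⁻¹, he'⟩ * ⟨e, he⟩⁻¹ : Rs p K) = 1 := by
      refine eq_one_of_forall_hom (H := Rs p K) (fun a b => Subtype.ext (hRab a a.2 b b.2))
        fun w => ?_
      rw [map_mul, map_inv, mul_inv_eq_one]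
      have h2 := (lin_smul_eq_iff a (w : Lin (Rs p K))).1 ((mem_Szero.1 ha).2 _) ⟨e, he⟩
      refine Eq.trans (congrArg _ (Subtype.ext ?_)) h2
      rw [MulAut.conjNormal_apply]
    exact mul_inv_eq_iff_eq_mul.1 (mul_inv_eq_one.1 (congrArg Subtype.val h1))
  have hS : ∀ a ∈ Szero P, ∀ b ∈ Szero P, a * b = b * a := fun a ha b hb => by
    rw [← h.stabilizer_eq_Szero hv] at ha hb
    exact h.stabilizer_comm hv a ha b hb
  set A := Rs p K ⊔ Szero P with hA
  haveI : A.Normal := by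
    rw [← Subgroup.normalizer_eq_top_iff, eq_top_iff, ← h.sup_eq_top]
    refine sup_le (le_sup_left.trans (Subgroup.le_normalizer : A ≤ _)) fun g hg => ?_
    rw [hA]
    refine Subgroup.mem_normalizer_iff.2 fun a => ?_
    have key : ∀ g ∈ Hs P, ∀ a ∈ Rs p K ⊔ Szero P, g * a * g⁻¹ ∈ Rs p K ⊔ Szero P := by
      intro g hg a ha
      obtain ⟨e, he, s, hs, rfl⟩ := Subgroup.mem_sup_of_normal_left.1 ha
      have := Subgroup.mul_mem_sup (Subgroup.Normal.conj_mem inferInstance e he g : _ ∈ Rs p K)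
        (Szero_conj_mem hs hg)
      simpa [mul_assoc] using this
    refine ⟨key g hg a, fun h1 => ?_⟩
    have := key g⁻¹ (inv_mem hg) _ h1
    simpa [mul_assoc] using this
  have hAab : ∀ a ∈ A, ∀ b ∈ A, a * b = b * a := by
    intro a ha b hb
    obtain ⟨e, he, s, hs, rfl⟩ := Subgroup.mem_sup_of_normal_left.1 ha
    obtain ⟨e', he', s', hs', rfl⟩ := Subgroup.mem_sup_of_normal_left.1 hb
    exact (Commute.mul_left (Commute.mul_right (hRab e he e' he') (hcomm s' hs' e he).symm)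
      (Commute.mul_right (hcomm s hs e' he') (hS s hs s' hs'))).eq
  have hidx : A.index = (Szero P).relIndex (Hs P) := by
    have h1 := card_sup_mul_inf (Rs p K) (Szero P)
    rw [le_bot_iff.1 ((inf_le_inf_left _ Szero_le).trans h.Rs_inf_Hs.le), Subgroup.card_bot,
      mul_one, ← hA] at h1
    have h2 : Nat.card (Szero P) * (Szero P).relIndex (Hs P) = Nat.card (Hs P) := by
      rw [← Subgroup.relIndex_bot_left (H := Szero P), ← Subgroup.relIndex_bot_left (H := Hs P)]
      exact Subgroup.relIndex_mul_relIndex _ _ _ bot_le Szero_le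
    have h3 := A.card_mul_index
    rw [h.card_eq, ← h2, h1, mul_assoc] at h3
    exact Nat.eq_of_mul_eq_mul_left Nat.card_pos (Nat.eq_of_mul_eq_mul_left Nat.card_pos h3)
  haveI := Fintype.ofFinite (MulAction.stabilizer K v ⊓ Hs P : Subgroup K)
  obtain ⟨θ, hθ⟩ := h.exists_degree v rfl (trivialChar _)
  have ht : degree (trivialChar (MulAction.stabilizer K v ⊓ Hs P : Subgroup K)) = 1 :=
    degree_eq_of_apply_one (by simp [trivialChar])
  have h1 := h.one_lt_relIndex hv
  rw [ht, mul_one] at hθ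
  have key : ∀ χ : IrrCharacter K, degree χ ≠ 1 → degree χ = degree θ := fun χ hχ =>
    h.anti χ θ hχ (by omega) (by
      rw [hθ, h.stabilizer_eq_Szero hv, ← hidx]
      exact degree_dvd_index_of_comm A hAab χ)
  rw [key ψ hψ, key φ hφ]

end Setup

end Cfsg.Agent.NonDivDeg
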