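import Cfsg.Agent.Lib.NonDivDeg.Action
import Cfsg.Agent.Lib.NonDivDeg.Linear
import Cfsg.Agent.Lib.Coprime.Commutator
import Cfsg.Agent.Lib.Transfer.Residual
import Cfsg.Agent.Lib.Char.ThompsonDegree
import Cfsg.Agent.Lib.Char.Ito

/-!
# Groups with an automorphism fixing all non-linear characters, antichain degrees: structure

`K` has a normal `p`-complement `Q`, `R = [Q, K]` has the complement `H = P × C_Q(P)` whose elements
moved modulo the derived subgroup act without fixed points on `R`; all non-trivial linear characters of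
`R` have the same abelian stabiliser `S₀` in `H`.
-/

set_option autoImplicit false
set_option linter.style.haveILetI false
set_option linter.unusedSectionVars false

namespace Cfsg.Agent.NonDivDeg

open Cfsg.Agent Cfsg.Agent.Char Cfsg.Agent.RelDeg
open scoped commutatorElement

universe u

section Basic

variable {K : Type u} [Group K] [Fintype K] {p : ℕ} [Fact p.Prime]

/-- `Q = O^p(K)`. -/
abbrev Qr (p : ℕ) (K : Type u) [Group K] : Subgroup K := Cfsg.pResidual p K

instance Qr_normal (p : ℕ) (K : Type u) [Group K] : (Qr p K).Normal := Transfer.pResidual_normal p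

/-- `R = [Q, K]`. -/
abbrev Rs (p : ℕ) (K : Type u) [Group K] : Subgroup K := ⁅Qr p K, ⊤⁆

/-- `C = C_Q(P)`. -/
def Cs (P : Sylow p K) : Subgroup K :=
  Qr p K ⊓ Subgroup.centralizer ((P : Subgroup K) : Set K)

/-- `H = P C`. -/
def Hs (P : Sylow p K) : Subgroup K := (P : Subgroup K) ⊔ Cs P

theorem Rs_le_Qr : Rs p K ≤ Qr p K := Subgroup.commutator_le_left _ _

theorem Rs_le_commutator : Rs p K ≤ commutator K := Subgroup.commutator_mono le_top le_rfl

variable {P : Sylow p K}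

theorem P_le_Hs : (P : Subgroup K) ≤ Hs P := le_sup_left

theorem Cs_le_Hs : Cs P ≤ Hs P := le_sup_right

theorem Cs_commute {c u : K} (hc : c ∈ Cs P) (hu : u ∈ (P : Subgroup K)) : c * u = u * c :=
  (Subgroup.mem_centralizer_iff.1 hc.2 u hu).symm

theorem P_le_normalizer_Cs : (P : Subgroup K) ≤ Subgroup.normalizer (Cs P : Set K) := by
  intro u hu
  refine Subgroup.centralizer_le_normalizer _ (Subgroup.mem_centralizer_iff.2 fun c hc => ?_)
  exact Cs_commute hc hu

variable (hQ : ¬ p ∣ Nat.card (Qr p K))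
include hQ

theorem coprime_P_Qr : (Nat.card (P : Subgroup K)).Coprime (Nat.card (Qr p K)) := by
  obtain ⟨n, hn⟩ := P.2.exists_card_eq
  rw [hn]
  exact ((Fact.out : p.Prime).coprime_iff_not_dvd.2 hQ).pow_left n

theorem P_inf_Qr : (P : Subgroup K) ⊓ Qr p K = ⊥ :=
  Coprime.disjoint_of_coprime_card (coprime_P_Qr hQ)

theorem Cs_sup_Rs : Cs P ⊔ Rs p K = Qr p K := by
  refine le_antisymm (sup_le inf_le_left Rs_le_Qr) ?_
  have h := Coprime.commutator_sup_centralizer (A := (P : Subgroup K)) (K := Qr p K)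
    (by rw [Subgroup.normalizer_eq_top]; exact le_top) (coprime_P_Qr hQ)
    (Or.inl (by haveI := P.2.isNilpotent; exact inferInstance))
  conv_lhs => rw [← h]
  exact sup_le (le_sup_of_le_right (Subgroup.commutator_mono le_rfl le_top)) le_sup_left

theorem Rs_sup_Hs : Rs p K ⊔ Hs P = ⊤ := by
  rw [Hs, sup_left_comm, sup_comm (Rs p K), Cs_sup_Rs hQ, Qr, Transfer.sylow_sup_pResidual_eq_top]

theorem commutator_eq : commutator K = Rs p K ⊔ ⁅(P : Subgroup K), (P : Subgroup K)⁆ := by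
  refine le_antisymm ?_ (sup_le Rs_le_commutator (Subgroup.commutator_mono le_top le_top))
  set π := QuotientGroup.mk' (Rs p K) with hπ
  have hcent : ∀ c ∈ Cs P, ∀ g : K, π c * π g = π g * π c := fun c hc g => by
    rw [← commutatorElement_eq_one_iff_mul_comm, ← map_commutatorElement, hπ,
      QuotientGroup.mk'_apply, QuotientGroup.eq_one_iff]
    exact Subgroup.commutator_mem_commutator hc.1 (Subgroup.mem_top g)
  have hdec : ∀ g : K, ∃ u ∈ (P : Subgroup K), ∃ c ∈ Cs P, π g = π u * π c := fun g => by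
    obtain ⟨e, he, h, hh, rfl⟩ := Subgroup.mem_sup_of_normal_left.1
      ((Rs_sup_Hs (P := P) hQ).symm ▸ Subgroup.mem_top g : g ∈ Rs p K ⊔ Hs P)
    obtain ⟨u, hu, c, hc, rfl⟩ :=
      (Coprime.mem_sup_iff_of_le_normalizer P_le_normalizer_Cs).1 hh
    refine ⟨u, hu, c, hc, ?_⟩
    rw [map_mul, show π e = 1 from (QuotientGroup.eq_one_iff e).2 he, one_mul, map_mul]
  rw [commutator_def, Subgroup.commutator_le]
  intro a _ b _
  obtain ⟨u, hu, c, hc, hua⟩ := hdec a
  obtain ⟨v, hv, d, hd, hvb⟩ := hdec b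
  have h1 : π ⁅a, b⁆ = π ⁅u, v⁆ := by
    rw [map_commutatorElement, map_commutatorElement, hua, hvb, commutatorElement_def,
      commutatorElement_def]
    have e1 : Commute (π c) (π v * π d) :=
      Commute.mul_right (hcent c hc v) (hcent c hc d)
    have e2 : Commute (π d) (π u)⁻¹ := Commute.inv_right (hcent d hd u)
    calc π u * π c * (π v * π d) * (π u * π c)⁻¹ * (π v * π d)⁻¹
        = π u * (π c * (π v * π d)) * (π c)⁻¹ * (π u)⁻¹ * (π d)⁻¹ * (π v)⁻¹ := by group
      _ = π u * π v * (π d * (π u)⁻¹) * (π d)⁻¹ * (π v)⁻¹ := by rw [e1.eq]; group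
      _ = _ := by rw [e2.eq]; group
  have h2 : ⁅a, b⁆ * ⁅u, v⁆⁻¹ ∈ Rs p K := by
    rw [← QuotientGroup.eq_one_iff]
    show π (⁅a, b⁆ * ⁅u, v⁆⁻¹) = 1
    rw [map_mul, map_inv, h1, mul_inv_cancel]
  rw [← inv_mul_cancel_right ⁅a, b⁆ ⁅u, v⁆]
  exact Subgroup.mul_mem_sup h2 (Subgroup.commutator_mem_commutator hu hv)

theorem card_commutator :
    Nat.card (commutator K) =
      Nat.card (Rs p K) * Nat.card (⁅(P : Subgroup K), (P : Subgroup K)⁆ : Subgroup K) := by
  rw [commutator_eq (P := P) hQ, sup_comm, Coprime.card_sup_of_le_normalizer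
    (by rw [Subgroup.normalizer_eq_top]; exact le_top)
    (le_bot_iff.1 (le_trans (inf_le_inf (Subgroup.commutator_le_self _) Rs_le_Qr)
      (P_inf_Qr hQ).le)), mul_comm]

theorem card_eq_P_Qr : Nat.card K = Nat.card (P : Subgroup K) * Nat.card (Qr p K) := by
  rw [← Coprime.card_sup_of_le_normalizer (by rw [Subgroup.normalizer_eq_top]; exact le_top)
    (P_inf_Qr hQ), Qr, Transfer.sylow_sup_pResidual_eq_top, Subgroup.card_top]

end Basic

/-- `y` is moved by `σ` modulo the derived subgroup. -/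
def Moved {K : Type u} [Group K] (σ : MulAut K) (y : K) : Prop := σ y * y⁻¹ ∉ commutator K

theorem moved_iff {K : Type u} [Group K] (σ : MulAut K) (y : K) :
    Moved σ y ↔ Abelianization.of (σ y) ≠ Abelianization.of y := by
  rw [Moved, Ne, ← mul_inv_eq_one (a := Abelianization.of (σ y)), ← map_inv, ← map_mul,
    ← MonoidHom.mem_ker, Abelianization.ker_of]

theorem moved_conj {K : Type u} [Group K] {σ : MulAut K} {y : K} (h : Moved σ y) (g : K) :
    Moved σ (g * y * g⁻¹) := by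
  rw [moved_iff] at h ⊢
  simpa [mul_comm (Abelianization.of (σ g)), mul_comm (Abelianization.of g)] using h

/-- The hypotheses: `σ` is an automorphism of order a prime `r` modulo inner ones fixing all
non-linear characters, whose degrees are divisible by `p`, prime to `r` and an antichain. -/
structure Hyp (r p : ℕ) (K : Type u) [Group K] (σ : MulAut K) : Prop where
  r_prime : r.Prime
  p_prime : p.Prime
  ne : r ≠ p
  inner : ∃ k, σ ^ r = MulAut.conj k
  p_dvd : ∀ ψ : IrrCharacter K, degree ψ ≠ 1 → p ∣ degree ψ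
  r_ndvd : ∀ ψ : IrrCharacter K, ¬ r ∣ degree ψ
  anti : ∀ ψ φ : IrrCharacter K, degree ψ ≠ 1 → degree φ ≠ 1 → degree ψ ∣ degree φ →
    degree ψ = degree φ
  invariant : ∀ ψ : IrrCharacter K, degree ψ ≠ 1 → ∀ g, ψ.1 (σ g) = ψ.1 g
  moved : ∃ x : K, (∃ n, x ^ p ^ n = 1) ∧ Moved σ x

theorem Hyp.not_dvd_Qr {r p : ℕ} {K : Type u} [Group K] [Fintype K] {σ : MulAut K}
    (h : Hyp r p K σ) : ¬ p ∣ Nat.card (Qr p K) :=
  not_dvd_card_pResidual_of_dvd_degree p h.p_prime h.p_dvd

/-- The normalised hypotheses. -/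
structure Setup (r p : ℕ) (K : Type u) [Group K] (σ : MulAut K) (P : Sylow p K) : Prop extends
    Hyp r p K σ where
  map_P : ∀ u ∈ (P : Subgroup K), σ u ∈ (P : Subgroup K)
  inner' : ∃ k ∈ Cs P, (∃ n, k ^ r ^ n = 1) ∧ σ ^ r = MulAut.conj k
  moved' : ∃ x ∈ (P : Subgroup K), Moved σ x

section Facts

variable {K : Type u} [Group K] [Fintype K] {r p : ℕ} [Fact p.Prime] {σ : MulAut K}
  {P : Sylow p K}

namespace Setup

theorem map_Qr (h : Setup r p K σ P) {z : K} (hz : z ∈ Qr p K) : σ z ∈ Qr p K := by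
  have hc := Transfer.pResidual_characteristic (G := K) p
  exact (Subgroup.characteristic_iff_map_le.1 hc σ) (Subgroup.mem_map_of_mem _ hz)

theorem map_Rs (h : Setup r p K σ P) {z : K} (hz : z ∈ Rs p K) : σ z ∈ Rs p K := by
  refine (?_ : (Rs p K).map σ.toMonoidHom ≤ Rs p K) (Subgroup.mem_map_of_mem _ hz)
  rw [Rs, Subgroup.map_commutator]
  refine Subgroup.commutator_mono ?_ le_top
  rintro _ ⟨a, ha, rfl⟩
  exact h.map_Qr ha

theorem map_P_eq (h : Setup r p K σ P) : (P : Subgroup K).map σ.toMonoidHom = P := by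
  refine Subgroup.eq_of_le_of_card_ge ?_ ?_
  · rintro _ ⟨u, hu, rfl⟩; exact h.map_P u hu
  · rw [Nat.card_congr ((P : Subgroup K).equivMapOfInjective σ.toMonoidHom σ.injective).toEquiv]

theorem map_Cs (h : Setup r p K σ P) {z : K} (hz : z ∈ Cs P) : σ z ∈ Cs P := by
  refine ⟨h.map_Qr hz.1, Subgroup.mem_centralizer_iff.2 fun u hu => ?_⟩
  rw [SetLike.mem_coe, ← h.map_P_eq] at hu
  obtain ⟨v, hv, rfl⟩ := hu
  show σ v * σ z = σ z * σ v
  rw [← map_mul, ← map_mul, Cs_commute hz hv]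

theorem map_Hs (h : Setup r p K σ P) {z : K} (hz : z ∈ Hs P) : σ z ∈ Hs P := by
  refine (?_ : (Hs P).map σ.toMonoidHom ≤ Hs P) (Subgroup.mem_map_of_mem _ hz)
  rw [Hs, Subgroup.map_sup, h.map_P_eq]
  refine sup_le_sup_left ?_ _
  rintro _ ⟨a, ha, rfl⟩
  exact h.map_Cs ha

theorem hQ (h : Setup r p K σ P) : ¬ p ∣ Nat.card (Qr p K) := h.toHyp.not_dvd_Qr

theorem card_centralizer (h : Setup r p K σ P) {y : K} (hy : Moved σ y) :
    Nat.card (Subgroup.centralizer ({y} : Set K)) = (commutator K).index :=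
  card_centralizer_eq_of_vanish fun _ hψ => apply_eq_zero_of_moved σ h.invariant hy hψ

/-- A moved element of `P` has no fixed points on `R`. -/
theorem fpf_of_mem_P (h : Setup r p K σ P) {x : K} (hx : x ∈ (P : Subgroup K)) (hxm : Moved σ x) :
    Rs p K ⊓ Subgroup.centralizer ({x} : Set K) = ⊥ := by
  set A := Qr p K ⊓ Subgroup.centralizer ({x} : Set K) with hA
  set B := (P : Subgroup K) ⊓ Subgroup.centralizer ({x} : Set K) with hB
  have hdis : Disjoint A B :=
    disjoint_iff.2 (le_bot_iff.1 ((inf_le_inf inf_le_left inf_le_left).trans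
      (inf_comm (Qr p K) (P : Subgroup K) ▸ (P_inf_Qr h.hQ).le)))
  have h1 := card_mul_le_centralizer A B hdis x
    (fun a ha => Subgroup.mem_centralizer_singleton_iff.1 ha.2)
    (fun a ha => Subgroup.mem_centralizer_singleton_iff.1 ha.2)
  rw [h.card_centralizer hxm] at h1
  have h2 : Nat.card (P : Subgroup K) ≤
      Nat.card B * Nat.card (⁅(P : Subgroup K), (P : Subgroup K)⁆ : Subgroup K) :=
    card_le_centralizer_mul_commutator _ hx
  have h3 : Rs p K ⊔ A = Qr p K := by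
    refine le_antisymm (sup_le Rs_le_Qr inf_le_left) ?_
    conv_lhs => rw [← Cs_sup_Rs (P := P) h.hQ]
    exact sup_le (le_sup_of_le_right fun c hc =>
      ⟨hc.1, Subgroup.mem_centralizer_singleton_iff.2 (Cs_commute hc hx)⟩) le_sup_left
  have h4 := card_sup_mul_inf (Rs p K) A
  rw [h3, show Rs p K ⊓ A = Rs p K ⊓ Subgroup.centralizer ({x} : Set K) by
    rw [hA, ← inf_assoc, inf_eq_left.2 Rs_le_Qr]] at h4
  have h5 := (commutator K).card_mul_index
  rw [card_commutator (P := P) h.hQ, card_eq_P_Qr (P := P) h.hQ] at h5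
  set c := Nat.card (Rs p K ⊓ Subgroup.centralizer ({x} : Set K) : Subgroup K) with hc
  have h6 : Nat.card (P : Subgroup K) * Nat.card (Qr p K) * c ≤
      Nat.card (P : Subgroup K) * Nat.card (Qr p K) * 1 := by
    calc Nat.card (P : Subgroup K) * Nat.card (Qr p K) * c
        = Nat.card (P : Subgroup K) * (Nat.card (Rs p K) * Nat.card A) := by rw [← h4]; ring
      _ ≤ Nat.card B * Nat.card (⁅(P : Subgroup K), (P : Subgroup K)⁆ : Subgroup K) *
            (Nat.card (Rs p K) * Nat.card A) := Nat.mul_le_mul_right _ h2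
      _ = Nat.card (Rs p K) * Nat.card (⁅(P : Subgroup K), (P : Subgroup K)⁆ : Subgroup K) *
            (Nat.card A * Nat.card B) := by ring
      _ ≤ _ := by rw [← h5, mul_one]; exact Nat.mul_le_mul_left _ h1
  have h7 := Nat.le_of_mul_le_mul_left h6 (Nat.mul_pos Nat.card_pos Nat.card_pos)
  exact Subgroup.eq_bot_of_card_le _ h7

theorem Rs_inf_Hs (h : Setup r p K σ P) : Rs p K ⊓ Hs P = ⊥ := by
  obtain ⟨x, hx, hxm⟩ := h.moved'
  refine le_bot_iff.1 fun e he => ?_
  obtain ⟨u, hu, c, hc, huc⟩ := (Coprime.mem_sup_iff_of_le_normalizer P_le_normalizer_Cs).1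
    (he.2 : e ∈ (P : Subgroup K) ⊔ Cs P)
  have hu1 : u = 1 := by
    have h1 : u ∈ (P : Subgroup K) ⊓ Qr p K := ⟨hu, by
      rw [← mul_inv_cancel_right u c, huc]
      exact (Qr p K).mul_mem (Rs_le_Qr he.1) ((Qr p K).inv_mem hc.1)⟩
    rwa [P_inf_Qr h.hQ, Subgroup.mem_bot] at h1
  rw [hu1, one_mul] at huc
  rw [← h.fpf_of_mem_P hx hxm]
  exact ⟨he.1, Subgroup.mem_centralizer_singleton_iff.2 (Cs_commute (huc ▸ hc) hx)⟩

theorem disjoint (h : Setup r p K σ P) : Disjoint (Rs p K) (Hs P) := disjoint_iff.2 h.Rs_inf_Hs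

theorem eq_one_of_mem (h : Setup r p K σ P) {e : K} (h1 : e ∈ Rs p K) (h2 : e ∈ Hs P) : e = 1 :=
  Subgroup.mem_bot.1 (h.Rs_inf_Hs ▸ ⟨h1, h2⟩)

theorem sup_eq_top (h : Setup r p K σ P) : Rs p K ⊔ Hs P = ⊤ := Rs_sup_Hs h.hQ

theorem exists_mul (h : Setup r p K σ P) (g : K) : ∃ e ∈ Rs p K, ∃ a ∈ Hs P, e * a = g :=
  Subgroup.mem_sup_of_normal_left.1 (h.sup_eq_top.symm ▸ Subgroup.mem_top g : g ∈ Rs p K ⊔ Hs P)

theorem card_eq (h : Setup r p K σ P) : Nat.card K = Nat.card (Rs p K) * Nat.card (Hs P) := by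
  have h1 := card_sup_mul_inf (Rs p K) (Hs P)
  rwa [h.sup_eq_top, h.Rs_inf_Hs, Subgroup.card_top, Subgroup.card_bot, mul_one] at h1

theorem Cs_central (h : Setup r p K σ P) {c a : K} (hc : c ∈ Cs P) (ha : a ∈ Hs P) :
    c * a = a * c := by
  obtain ⟨u, hu, d, hd, rfl⟩ :=
    (Coprime.mem_sup_iff_of_le_normalizer P_le_normalizer_Cs).1 ha
  have h1 : c * d = d * c := by
    rw [← commutatorElement_eq_one_iff_mul_comm]
    refine h.eq_one_of_mem (Subgroup.commutator_mem_commutator hc.1 (Subgroup.mem_top d)) ?_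
    rw [commutatorElement_def]
    exact Cs_le_Hs (mul_mem (mul_mem (mul_mem hc hd) (inv_mem hc)) (inv_mem hd))
  exact Commute.mul_right (Cs_commute hc hu) h1

theorem mem_commutator_iff (h : Setup r p K σ P) {a : K} (ha : a ∈ Hs P) :
    a ∈ commutator K ↔ a ∈ ⁅(P : Subgroup K), (P : Subgroup K)⁆ := by
  refine ⟨fun h1 => ?_, fun h1 => Subgroup.commutator_mono le_top le_top h1⟩
  rw [commutator_eq (P := P) h.hQ] at h1
  obtain ⟨e, he, b, hb, rfl⟩ := Subgroup.mem_sup_of_normal_left.1 h1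
  have hbH : b ∈ Hs P := P_le_Hs (Subgroup.commutator_le_self _ hb)
  rw [h.eq_one_of_mem he (by simpa using mul_mem ha (inv_mem hbH)), one_mul]
  exact hb

theorem commutator_Hs_le (h : Setup r p K σ P) :
    ⁅Hs P, Hs P⁆ ≤ ⁅(P : Subgroup K), (P : Subgroup K)⁆ := fun a ha =>
  (h.mem_commutator_iff (Subgroup.commutator_le_self _ ha)).1
    (Subgroup.commutator_mono le_top le_top ha)

/-- A moved element of `H` has no fixed points on `R`. -/
theorem fpf (h : Setup r p K σ P) {y : K} (hy : y ∈ Hs P) (hym : Moved σ y) {e : K}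
    (he : e ∈ Rs p K) (hc : y * e = e * y) : e = 1 := by
  set A := Rs p K ⊓ Subgroup.centralizer ({y} : Set K) with hA
  set B := Hs P ⊓ Subgroup.centralizer ({y} : Set K) with hB
  have h1 := card_mul_le_centralizer A B (h.disjoint.mono inf_le_left inf_le_left) y
    (fun a ha => Subgroup.mem_centralizer_singleton_iff.1 ha.2)
    (fun a ha => Subgroup.mem_centralizer_singleton_iff.1 ha.2)
  rw [h.card_centralizer hym] at h1
  have h2 : Nat.card (Hs P) ≤ Nat.card B * Nat.card (⁅Hs P, Hs P⁆ : Subgroup K) :=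
    card_le_centralizer_mul_commutator _ hy
  have h5 := (commutator K).card_mul_index
  rw [card_commutator (P := P) h.hQ, h.card_eq] at h5
  have h8 : Nat.card (⁅Hs P, Hs P⁆ : Subgroup K) ≤
      Nat.card (⁅(P : Subgroup K), (P : Subgroup K)⁆ : Subgroup K) :=
    Subgroup.card_le_of_le h.commutator_Hs_le
  have h6 : Nat.card (Rs p K) * Nat.card (Hs P) * Nat.card A ≤
      Nat.card (Rs p K) * Nat.card (Hs P) * 1 := by
    calc Nat.card (Rs p K) * Nat.card (Hs P) * Nat.card A
        ≤ Nat.card (Rs p K) *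
            (Nat.card B * Nat.card (⁅(P : Subgroup K), (P : Subgroup K)⁆ : Subgroup K)) *
            Nat.card A :=
          Nat.mul_le_mul_right _ (Nat.mul_le_mul_left _ (h2.trans (Nat.mul_le_mul_left _ h8)))
      _ = Nat.card (Rs p K) * Nat.card (⁅(P : Subgroup K), (P : Subgroup K)⁆ : Subgroup K) *
            (Nat.card A * Nat.card B) := by ring
      _ ≤ _ := by rw [← h5, mul_one]; exact Nat.mul_le_mul_left _ h1
  have h7 := Nat.le_of_mul_le_mul_left h6 (Nat.mul_pos Nat.card_pos Nat.card_pos)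
  have hmem : e ∈ A := ⟨he, Subgroup.mem_centralizer_singleton_iff.2 hc.symm⟩
  rwa [Subgroup.eq_bot_of_card_le _ h7, Subgroup.mem_bot] at hmem

end Setup

theorem lin_smul_eq_iff {N : Subgroup K} [N.Normal] (g : K) (v : Lin N) :
    g • v = v ↔ ∀ n : N, v (MulAut.conjNormal g n) = v n := by
  constructor
  · intro h n
    conv_lhs => rw [← h]
    rw [lin_smul_apply, ← MulAut.mul_apply, ← map_mul, inv_mul_cancel, map_one, MulAut.one_apply]
  · intro h
    refine Lin.ext fun n => ?_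
    rw [lin_smul_apply, ← h, ← MulAut.mul_apply, ← map_mul, mul_inv_cancel, map_one,
      MulAut.one_apply]

namespace Setup

/-- A moved element of `H` fixes no non-trivial linear character of a normal subgroup of `K` in `R`. -/
theorem lin_eq_one (h : Setup r p K σ P) {y : K} (hy : y ∈ Hs P) (hym : Moved σ y) (E : Subgroup K)
    [E.Normal] (hE : E ≤ Rs p K) (v : Lin E) (hv : y • v = v) : v = 1 := by
  have h1 := linear_eq_one_of_fixed E y (fun e he => Subgroup.Normal.conj_mem inferInstance e he y)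
    (fun e he hc => h.fpf hy hym (hE he) hc) (v : E →* ℂˣ) (fun e =>
      ((lin_smul_eq_iff y v).1 hv e).symm ▸ congrArg v (Subtype.ext rfl))
  exact Lin.ext fun e => DFunLike.congr_fun h1 e

variable [Fintype (Rs p K)]

/-- Degrees over a linear character of `R`. -/
theorem exists_degree (h : Setup r p K σ P) (v : Lin (Rs p K)) {S : Subgroup K}
    (hS : S = MulAction.stabilizer K v ⊓ Hs P) (β : IrrCharacter S) :
    ∃ χ : IrrCharacter K, degree χ = S.relIndex (Hs P) * degree β :=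
  exists_degree_over (Rs p K) (Hs P) h.disjoint h.sup_eq_top v hS β

/-- The degrees of `H` are degrees of `K`. -/
theorem exists_degree_Hs (h : Setup r p K σ P) (β : IrrCharacter (Hs P)) :
    ∃ χ : IrrCharacter K, degree χ = degree β := by
  obtain ⟨χ, hχ⟩ := h.exists_degree (S := Hs P) 1
    (inf_eq_right.2 fun a _ => MulAction.mem_stabilizer_iff.2 (smul_one a)).symm β
  exact ⟨χ, by rw [hχ, Subgroup.relIndex_self, one_mul]⟩

theorem Cs_relIndex_pow (h : Setup r p K σ P) : ∃ n, (Cs P).relIndex (Hs P) = p ^ n := by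
  obtain ⟨n, hn⟩ := P.2.exists_card_eq
  have h1 : (Cs P).relIndex (Hs P) ∣ p ^ n := by
    rw [Hs, Coprime.relIndex_sup_right_of_le_normalizer P_le_normalizer_Cs, ← hn]
    exact Subgroup.relIndex_dvd_card _ _
  obtain ⟨j, -, hj⟩ := (Nat.dvd_prime_pow (Fact.out : p.Prime)).1 h1
  exact ⟨j, hj⟩

theorem degree_Hs_pow (h : Setup r p K σ P) (β : IrrCharacter (Hs P)) : ∃ n, degree β = p ^ n := by
  haveI := Fintype.ofFinite (Hs P)
  haveI : ((Cs P).subgroupOf (Hs P)).Normal := ⟨fun c hc a => by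
    rw [Subgroup.mem_subgroupOf] at hc ⊢
    have h1 : (a : K) * c * (a : K)⁻¹ = c := by rw [← h.Cs_central hc a.2, mul_inv_cancel_right]
    rwa [Subgroup.coe_mul, Subgroup.coe_mul, Subgroup.coe_inv, h1]⟩
  obtain ⟨n, hn⟩ := h.Cs_relIndex_pow
  obtain ⟨j, -, hj⟩ := (Nat.dvd_prime_pow (Fact.out : p.Prime)).1
    (hn ▸ degree_dvd_index_of_comm ((Cs P).subgroupOf (Hs P))
      (fun a ha b _ => Subtype.ext (h.Cs_central (Subgroup.mem_subgroupOf.1 ha) b.2)) β :
      degree β ∣ p ^ n)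
  exact ⟨j, hj⟩

theorem degree_Hs_eq (h : Setup r p K σ P) (β γ : IrrCharacter (Hs P)) (hβ : degree β ≠ 1)
    (hγ : degree γ ≠ 1) : degree β = degree γ := by
  obtain ⟨χ, hχ⟩ := h.exists_degree_Hs β
  obtain ⟨φ, hφ⟩ := h.exists_degree_Hs γ
  obtain ⟨m, hm⟩ := h.degree_Hs_pow β
  obtain ⟨n, hn⟩ := h.degree_Hs_pow γ
  rw [← hχ, ← hφ]
  rcases le_total m n with h1 | h1
  · exact h.anti χ φ (hχ ▸ hβ) (hφ ▸ hγ) (by rw [hχ, hφ, hm, hn]; exact pow_dvd_pow p h1)
  · exact (h.anti φ χ (hφ ▸ hγ) (hχ ▸ hβ) (by rw [hχ, hφ, hm, hn]; exact pow_dvd_pow p h1)).symm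

/-- The degrees of `H` divide the indices of its abelian subgroups. -/
theorem degree_dvd_relIndex (h : Setup r p K σ P) (S : Subgroup K) (hS : S ≤ Hs P)
    (hab : ∀ a ∈ S, ∀ b ∈ S, a * b = b * a) (β : IrrCharacter (Hs P)) :
    degree β ∣ S.relIndex (Hs P) := by
  haveI := Fintype.ofFinite (Hs P)
  set T := S ⊔ Cs P with hT
  have hTab : T ≤ Subgroup.centralizer (T : Set K) := by
    have hTH : T ≤ Hs P := sup_le hS Cs_le_Hs
    have hS' : S ≤ Subgroup.centralizer (T : Set K) := fun a ha =>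
      Subgroup.mem_centralizer_iff.2 fun b hb => by
        have : T ≤ Subgroup.centralizer ({a} : Set K) := sup_le
          (fun c hc => Subgroup.mem_centralizer_singleton_iff.2 (hab c hc a ha))
          (fun c hc => Subgroup.mem_centralizer_singleton_iff.2 (h.Cs_central hc (hS ha)))
        exact Subgroup.mem_centralizer_singleton_iff.1 (this hb)
    refine sup_le hS' fun c hc => Subgroup.mem_centralizer_iff.2 fun b hb => ?_
    exact (h.Cs_central hc (hTH hb)).symm
  have h1 : degree β ≤ T.relIndex (Hs P) := degree_le_index_of_comm (T.subgroupOf (Hs P))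
    (fun a ha b hb => Subtype.ext (Subgroup.mem_centralizer_iff.1
      (hTab (Subgroup.mem_subgroupOf.1 hb)) a (Subgroup.mem_subgroupOf.1 ha))) β
  obtain ⟨n, hn⟩ := h.Cs_relIndex_pow
  obtain ⟨i, -, hi⟩ := (Nat.dvd_prime_pow (Fact.out : p.Prime)).1
    (hn ▸ Subgroup.relIndex_dvd_of_le_left (Hs P) (le_sup_right : Cs P ≤ T) :
      T.relIndex (Hs P) ∣ p ^ n)
  obtain ⟨j, hj⟩ := h.degree_Hs_pow β
  refine dvd_trans ?_ (Subgroup.relIndex_dvd_of_le_left (Hs P) (le_sup_left : S ≤ T))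
  rw [hj, hi]
  rw [hj, hi] at h1
  exact pow_dvd_pow p ((Nat.pow_le_pow_iff_right (Fact.out : p.Prime).one_lt).1 h1)

theorem moved_not_mem_stabilizer (h : Setup r p K σ P) {y : K} (hy : y ∈ Hs P) (hym : Moved σ y)
    {v : Lin (Rs p K)} (hv : v ≠ 1) : y ∉ MulAction.stabilizer K v := fun hmem =>
  hv (h.lin_eq_one hy hym _ le_rfl v (MulAction.mem_stabilizer_iff.1 hmem))

theorem one_lt_relIndex (h : Setup r p K σ P) {v : Lin (Rs p K)} (hv : v ≠ 1) :
    1 < (MulAction.stabilizer K v ⊓ Hs P).relIndex (Hs P) := by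
  obtain ⟨x, hx, hxm⟩ := h.moved'
  by_contra h1
  have h2 : (MulAction.stabilizer K v ⊓ Hs P).relIndex (Hs P) ≠ 0 := Subgroup.index_ne_zero_of_finite
  have h3 := Subgroup.relIndex_eq_one.1
    (show (MulAction.stabilizer K v ⊓ Hs P).relIndex (Hs P) = 1 by omega)
  exact h.moved_not_mem_stabilizer (P_le_Hs hx) hxm hv (h3 (P_le_Hs hx)).1

theorem stabilizer_comm (h : Setup r p K σ P) {v : Lin (Rs p K)} (hv : v ≠ 1) :
    ∀ a ∈ MulAction.stabilizer K v ⊓ Hs P, ∀ b ∈ MulAction.stabilizer K v ⊓ Hs P,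
      a * b = b * a := by
  set S := MulAction.stabilizer K v ⊓ Hs P with hS
  refine forall_comm_of_degrees S fun β => ?_
  have h1 := h.one_lt_relIndex hv
  obtain ⟨χ, hχ⟩ := h.exists_degree v hS β
  haveI := Fintype.ofFinite S
  obtain ⟨φ, hφ⟩ := h.exists_degree v hS (trivialChar S)
  have ht : degree (trivialChar S) = 1 := degree_eq_of_apply_one (by simp [trivialChar])
  rw [ht, mul_one] at hφ
  have h2 := h.anti φ χ (by rw [hφ, hS]; omega)
    (fun e => h1.ne' (Nat.dvd_one.1 ⟨degree β, by rw [← hS, ← hχ, e]⟩))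
    (by rw [hφ, hχ]; exact dvd_mul_right _ _)
  rw [hφ, hχ] at h2
  exact (Nat.mul_eq_left (by rw [hS]; omega)).1 h2.symm

theorem commutator_le_stabilizer (h : Setup r p K σ P) (v : Lin (Rs p K)) :
    ⁅Hs P, Hs P⁆ ≤ MulAction.stabilizer K v := by
  by_cases hv : v = 1
  · intro a _
    rw [MulAction.mem_stabilizer_iff, hv, smul_one]
  set S := MulAction.stabilizer K v ⊓ Hs P with hS
  have h1 := h.one_lt_relIndex hv
  haveI := Fintype.ofFinite (Hs P)
  haveI := Fintype.ofFinite S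
  have hcd : ∀ β : IrrCharacter (Hs P), degree β = 1 ∨ degree β = S.relIndex (Hs P) := by
    intro β
    by_cases hβ : degree β = 1
    · exact Or.inl hβ
    refine Or.inr ?_
    obtain ⟨χ, hχ⟩ := h.exists_degree_Hs β
    obtain ⟨φ, hφ⟩ := h.exists_degree v hS (trivialChar S)
    have ht : degree (trivialChar S) = 1 := degree_eq_of_apply_one (by simp [trivialChar])
    rw [ht, mul_one] at hφ
    rw [← hχ, ← hφ]
    exact h.anti χ φ (hχ ▸ hβ) (by rw [hφ, hS]; omega)
      (by rw [hχ, hφ]; exact h.degree_dvd_relIndex S inf_le_right (h.stabilizer_comm hv) β)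
  have h2 := commutator_le_of_index (by rw [hS]; exact h1) hcd (S.subgroupOf (Hs P)) rfl
  intro a ha
  have h3 : (⟨a, Subgroup.commutator_le_self _ ha⟩ : Hs P) ∈ commutator (Hs P) := by
    rw [← Subgroup.map_subtype_commutator] at ha
    obtain ⟨b, hb, rfl⟩ := ha
    exact hb
  exact (Subgroup.mem_subgroupOf.1 (h2 h3)).1

/-- `H` acts on the linear characters of `R` through commuting operators. -/
theorem smul_comm_Hs (h : Setup r p K σ P) {a b : K} (ha : a ∈ Hs P) (hb : b ∈ Hs P)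
    (v : Lin (Rs p K)) : a • b • v = b • a • v := by
  have h1 : ⁅a, b⁆ • (b • a • v) = b • a • v :=
    h.commutator_le_stabilizer _ (Subgroup.commutator_mem_commutator ha hb)
  conv_rhs => rw [← h1]
  rw [← mul_smul, ← mul_smul, ← mul_smul]
  congr 1
  rw [commutatorElement_def]
  group

/-- The stabilisers of the non-trivial linear characters agree. -/
theorem stabilizer_eq (h : Setup r p K σ P) {v w : Lin (Rs p K)} (hv : v ≠ 1) (hw : w ≠ 1) :
    MulAction.stabilizer K v ⊓ Hs P = MulAction.stabilizer K w ⊓ Hs P := by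
  have hst : ∀ v : Lin (Rs p K),
      MulAction.stabilizer (Hs P) v = (MulAction.stabilizer K v).subgroupOf (Hs P) :=
    fun v => Subgroup.ext fun a => Iff.rfl
  have hdeg : ∀ v : Lin (Rs p K), v ≠ 1 → ∃ χ : IrrCharacter K,
      degree χ = (MulAction.stabilizer (Hs P) v).index ∧ degree χ ≠ 1 := by
    intro v hv
    have h1 := h.one_lt_relIndex hv
    haveI := Fintype.ofFinite (MulAction.stabilizer K v ⊓ Hs P : Subgroup K)
    obtain ⟨χ, hχ⟩ := h.exists_degree v rfl (trivialChar _)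
    have ht : degree (trivialChar (MulAction.stabilizer K v ⊓ Hs P : Subgroup K)) = 1 :=
      degree_eq_of_apply_one (by simp [trivialChar])
    rw [ht, mul_one] at hχ
    refine ⟨χ, ?_, by omega⟩
    rw [hχ, hst, Subgroup.inf_relIndex_right]
    rfl
  have key := stabilizer_eq_of_antichain (H := Hs P) (X := Lin (Rs p K))
    (fun a b v => h.smul_comm_Hs a.2 b.2 v)
    (fun v w hv hw hd => by
      obtain ⟨χ, hχ, hχ1⟩ := hdeg v hv
      obtain ⟨φ, hφ, hφ1⟩ := hdeg w hw
      rw [← hχ, ← hφ] at hd ⊢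
      exact h.anti χ φ hχ1 hφ1 hd) hv hw
  rw [hst, hst, Subgroup.subgroupOf_inj] at key
  exact key

end Setup

/-- The kernel of the action of `H` on the linear characters of `R`. -/
def Szero (P : Sylow p K) : Subgroup K := Hs P ⊓ ⨅ v : Lin (Rs p K), MulAction.stabilizer K v

theorem mem_Szero {a : K} :
    a ∈ Szero P ↔ a ∈ Hs P ∧ ∀ v : Lin (Rs p K), a • v = v := by
  simp [Szero, Subgroup.mem_iInf]

theorem Szero_le : Szero P ≤ Hs P := inf_le_left

theorem Szero_conj_mem {a g : K} (ha : a ∈ Szero P) (hg : g ∈ Hs P) : g * a * g⁻¹ ∈ Szero P := by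
  rw [mem_Szero] at ha ⊢
  refine ⟨mul_mem (mul_mem hg ha.1) (inv_mem hg), fun v => ?_⟩
  rw [mul_smul, mul_smul, ha.2, smul_inv_smul]

namespace Setup

variable [Fintype (Rs p K)]

theorem commutator_le_Szero (h : Setup r p K σ P) : ⁅Hs P, Hs P⁆ ≤ Szero P := fun _ ha =>
  mem_Szero.2 ⟨Subgroup.commutator_le_self _ ha, fun v => h.commutator_le_stabilizer v ha⟩

theorem stabilizer_eq_Szero (h : Setup r p K σ P) {v : Lin (Rs p K)} (hv : v ≠ 1) :
    MulAction.stabilizer K v ⊓ Hs P = Szero P := by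
  refine le_antisymm (fun a ha => mem_Szero.2 ⟨ha.2, fun w => ?_⟩) fun a ha =>
    ⟨(mem_Szero.1 ha).2 v, (mem_Szero.1 ha).1⟩
  by_cases hw : w = 1
  · rw [hw, smul_one]
  · exact ((h.stabilizer_eq hv hw) ▸ ha : a ∈ MulAction.stabilizer K w ⊓ Hs P).1

theorem mem_Szero_of_fixed (h : Setup r p K σ P) {a : K} (ha : a ∈ Hs P) {v : Lin (Rs p K)}
    (hv : v ≠ 1) (hav : a • v = v) : a ∈ Szero P := h.stabilizer_eq_Szero hv ▸ ⟨hav, ha⟩

end Setup

end Facts

end Cfsg.Agent.NonDivDeg
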